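/-
Two elementary abelian subgroups of order 16 with a common Sylow 2-subgroup (from `Lib/CITPlane`, with weaker hypotheses).

* `Frame`          : the data
* `Frame.mem_or`   : every involution of `T` lies in `D` or `E`
* `Frame.N_T_le`   : the normaliser of `T` normalises `D`
* `Frame.not_conj` : `D` and `E` are not conjugate
* `Frame.relIndex_B` : `T` has five conjugates in `N(D)`
* `Frame.exists_mem_Z` : every element of `D` is central in one of them
-/
import Cfsg.Agent.EqLemmas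
import Cfsg.Agent.Lib.CIT.Basic
-- adapted from helper's CIT plane: the hypotheses below replace the CIT property (S3198)

set_option autoImplicit false

open Cfsg

namespace Cfsg.Agent.L34Sylow.Plane

/-- The data. -/
structure Frame (G : Type*) [Group G] where
  /-- The point subgroup. -/
  D : Subgroup G
  /-- The line subgroup. -/
  E : Subgroup G
  /-- The common Sylow 2-subgroup. -/
  T : Subgroup G
  loc : ∀ z ∈ D, z ∈ E → z ≠ 1 → ∀ P : Subgroup G, IsPGroup 2 P →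
    P ≤ Subgroup.centralizer ({z} : Set G) → P ≤ T
  sylow : ∃ S : Sylow 2 G, (S : Subgroup G) = T
  card_D : Nat.card D = 16
  card_E : Nat.card E = 16
  card_T : Nat.card T = 64
  card_inf : Nat.card ↥(D ⊓ E) = 4
  sq_D : ∀ x ∈ D, x * x = 1
  sq_E : ∀ x ∈ E, x * x = 1
  D_le : D ≤ T
  E_le : E ≤ T
  T_le_D : T ≤ Subgroup.normalizer (D : Set G)
  T_le_E : T ≤ Subgroup.normalizer (E : Set G)
  fix_D : ∀ a ∈ T, a ∉ D → ∀ d ∈ D, a * d = d * a → d ∈ E
  fix_E : ∀ a ∈ T, a ∉ E → ∀ e ∈ E, a * e = e * a → e ∈ D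
  comm : ∀ z ∈ D, z ∈ E → ∀ t ∈ T, t * z = z * t
  cent_D : Subgroup.centralizer (D : Set G) ≤ D
  cent_E : Subgroup.centralizer (E : Set G) ≤ E
  trans_D : ∀ d ∈ D, d ≠ 1 → ∃ g ∈ Subgroup.normalizer (D : Set G), g⁻¹ * d * g ∈ D ⊓ E
  trans_E : ∀ d ∈ E, d ≠ 1 → ∃ g ∈ Subgroup.normalizer (E : Set G), g⁻¹ * d * g ∈ E ⊓ D
  bound_D : ∀ X : Subgroup G, X ≤ Subgroup.normalizer (D : Set G) → Odd (Nat.card X) → ∀ u : G,
    orderOf u = 2 → (∀ w ∈ X, u * w * u⁻¹ ∈ X) → Nat.card {i : G // orderOf i = 2 ∧ u * i ∈ X} ≤ 14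
  bound_E : ∀ X : Subgroup G, X ≤ Subgroup.normalizer (E : Set G) → Odd (Nat.card X) → ∀ u : G,
    orderOf u = 2 → (∀ w ∈ X, u * w * u⁻¹ ∈ X) → Nat.card {i : G // orderOf i = 2 ∧ u * i ∈ X} ≤ 14

namespace Frame

variable {G : Type*} [Group G] (F : Frame G)

/-- Interchanging `D` and `E`. -/
def swap : Frame G where
  D := F.E
  E := F.D
  T := F.T
  loc := fun z h1 h2 => F.loc z h2 h1
  sylow := F.sylow
  card_D := F.card_E
  card_E := F.card_D
  card_T := F.card_T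
  card_inf := by rw [inf_comm]; exact F.card_inf
  sq_D := F.sq_E
  sq_E := F.sq_D
  D_le := F.E_le
  E_le := F.D_le
  T_le_D := F.T_le_E
  T_le_E := F.T_le_D
  fix_D := F.fix_E
  fix_E := F.fix_D
  comm := fun z h1 h2 => F.comm z h2 h1
  cent_D := F.cent_E
  cent_E := F.cent_D
  trans_D := F.trans_E
  trans_E := F.trans_D
  bound_D := F.bound_E
  bound_E := F.bound_D

@[simp] theorem swap_D : F.swap.D = F.E := rfl
@[simp] theorem swap_E : F.swap.E = F.D := rfl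
@[simp] theorem swap_T : F.swap.T = F.T := rfl

/-- The point stabiliser. -/
abbrev ND : Subgroup G := Subgroup.normalizer (F.D : Set G)

/-- The line stabiliser. -/
abbrev NE : Subgroup G := Subgroup.normalizer (F.E : Set G)

/-- The flag stabiliser. -/
def B : Subgroup G := F.ND ⊓ F.NE

/-- The centre of `T`. -/
def Z : Subgroup G := F.D ⊓ F.E

theorem card_Z : Nat.card F.Z = 4 := F.card_inf

theorem conj_mem_normalizer {H : Subgroup G} {g x : G} (hg : g ∈ Subgroup.normalizer (H : Set G))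
    (hx : x ∈ H) : g * x * g⁻¹ ∈ H :=
  (Subgroup.mem_normalizer_iff.1 hg x).1 hx

theorem conj_mem_Z {g z : G} (hg : g ∈ F.B) (hz : z ∈ F.Z) : g * z * g⁻¹ ∈ F.Z :=
  ⟨conj_mem_normalizer hg.1 hz.1, conj_mem_normalizer hg.2 hz.2⟩

variable [Finite G]

omit [Finite G] in
theorem T_two : IsPGroup 2 F.T := by
  obtain ⟨S, hS⟩ := F.sylow
  exact hS ▸ S.isPGroup'

theorem eq_T {P : Subgroup G} (hP : IsPGroup 2 P) (hle : F.T ≤ P) : P = F.T := by
  obtain ⟨S, hS⟩ := F.sylow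
  exact (S.is_maximal' hP (hS ▸ hle)).trans hS

theorem mem_T_of_two {x : G} (hn : x ∈ Subgroup.normalizer (F.T : Set G)) (hx : IsPGroup 2 (Subgroup.zpowers x)) :
    x ∈ F.T :=
  (F.eq_T (hx.to_sup_of_normal_right' F.T_two (Subgroup.zpowers_le.2 hn)) le_sup_right).le
    (Subgroup.mem_sup_left (Subgroup.mem_zpowers x))

theorem T_eq_sup : F.T = F.D ⊔ F.E := by
  symm
  refine Subgroup.eq_of_le_of_card_ge (sup_le F.D_le F.E_le) ?_
  have h1 := Subgroup.relIndex_mul_relIndex ⊥ F.D (F.D ⊔ F.E) bot_le le_sup_left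
  have h2 : F.D.relIndex F.E = 4 := by
    have h := Subgroup.relIndex_mul_relIndex ⊥ (F.D ⊓ F.E) F.E bot_le inf_le_right
    rw [Subgroup.relIndex_bot_left, Subgroup.relIndex_bot_left, F.card_inf, F.card_E,
      Subgroup.inf_relIndex_right] at h
    omega
  have h3 : F.D.relIndex F.E ≤ F.D.relIndex (F.D ⊔ F.E) :=
    Subgroup.relIndex_le_of_le_right le_sup_right Subgroup.FiniteIndex.index_ne_zero
  rw [Subgroup.relIndex_bot_left, Subgroup.relIndex_bot_left, F.card_D] at h1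
  rw [F.card_T]
  omega

omit [Finite G] in
theorem mul_eq' {t : G} (ht : t ∈ F.D ⊔ F.E) : ∃ d ∈ F.D, ∃ e ∈ F.E, d * e = t := by
  have h := Subgroup.coe_mul_of_left_le_normalizer_right F.D F.E (F.D_le.trans F.T_le_E)
  have ht' : t ∈ ((F.D ⊔ F.E : Subgroup G) : Set G) := ht
  rw [h, Set.mem_mul] at ht'
  exact ht'

/-- Every involution of `T` lies in `D` or in `E`. -/
theorem mem_or {t : G} (ht : t ∈ F.T) (h2 : t * t = 1) : t ∈ F.D ∨ t ∈ F.E := by
  obtain ⟨d, hd, e, he, rfl⟩ := F.mul_eq' (F.T_eq_sup ▸ ht)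
  by_cases hdE : d ∈ F.E
  · exact Or.inr (F.E.mul_mem hdE he)
  have hc : d * e = e * d := by
    calc d * e = (d * d) * (d * e) * (e * e) := by rw [F.sq_D d hd, F.sq_E e he, one_mul, mul_one]
      _ = d * (d * (d * e) * e) * e := by group
      _ = (d * e)⁻¹ := by
        have h3 : d * (d * e) * e = (d * d) * (e * e) := by group
        rw [h3, F.sq_D d hd, F.sq_E e he, one_mul, mul_one]
        exact (inv_eq_of_mul_eq_one_right h2).symm
      _ = e * d := by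
        rw [mul_inv_rev, inv_eq_of_mul_eq_one_right (F.sq_D d hd), inv_eq_of_mul_eq_one_right (F.sq_E e he)]
  exact Or.inl (F.D.mul_mem hd (F.fix_E d (F.D_le hd) hdE e he hc))

/-- The only elementary abelian subgroups of order 16 of `T`. -/
theorem eq_or {H : Subgroup G} (hH : H ≤ F.T) (h2 : ∀ x ∈ H, x * x = 1) (hc : Nat.card H = 16) :
    H = F.D ∨ H = F.E := by
  by_cases hD : H ≤ F.D
  · exact Or.inl (Subgroup.eq_of_le_of_card_ge hD (by rw [hc, F.card_D]))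
  by_cases hE : H ≤ F.E
  · exact Or.inr (Subgroup.eq_of_le_of_card_ge hE (by rw [hc, F.card_E]))
  exfalso
  obtain ⟨a, ha, haD⟩ := SetLike.not_le_iff_exists.1 hD
  obtain ⟨b, hb, hbE⟩ := SetLike.not_le_iff_exists.1 hE
  have haE := (F.mem_or (hH ha) (h2 a ha)).resolve_left haD
  have hbD := (F.mem_or (hH hb) (h2 b hb)).resolve_right hbE
  rcases F.mem_or (hH (H.mul_mem ha hb)) (h2 _ (H.mul_mem ha hb)) with h | h
  · exact haD ((Subgroup.mul_mem_cancel_right _ hbD).1 h)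
  · exact hbE ((Subgroup.mul_mem_cancel_left _ haE).1 h)

/-- The normaliser of `T` normalises `D`. -/
theorem N_T_le : Subgroup.normalizer (F.T : Set G) ≤ F.ND := by
  intro g hg
  have himg : ∀ x ∈ Subgroup.normalizer (F.T : Set G),
      ∀ H : Subgroup G, H ≤ F.T → (∀ y ∈ H, y * y = 1) → Nat.card H = 16 →
      H.map (MulAut.conj x).toMonoidHom = F.D ∨ H.map (MulAut.conj x).toMonoidHom = F.E := by
    intro x hx H hH h2 hc
    refine F.eq_or ?_ ?_ ?_
    · rintro _ ⟨y, hy, rfl⟩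
      exact conj_mem_normalizer hx (hH hy)
    · rintro _ ⟨y, hy, rfl⟩
      rw [← map_mul, h2 y hy, map_one]
    · rw [Subgroup.card_map_of_injective (MulAut.conj x).injective, hc]
  rw [Subgroup.mem_normalizer_iff_map_conj_eq]
  rcases himg g hg F.D F.D_le F.sq_D F.card_D with h | h
  · exact h
  rcases himg g hg F.E F.E_le F.sq_E F.card_E with h' | h'
  swap
  · have e := Subgroup.map_injective (MulAut.conj g).injective (h.trans h'.symm)
    exact h.trans e.symm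
  -- `g * g` normalises `D`
  have hgg : g * g ∈ F.ND := by
    rw [Subgroup.mem_normalizer_iff_map_conj_eq]
    conv_rhs => rw [← h', ← h, Subgroup.map_map]
    congr 1
    ext y
    simp [mul_assoc]
  obtain ⟨a, m, hm, ho⟩ := Nat.exists_eq_two_pow_mul_odd (orderOf_pos g).ne'
  have hgm : g ^ m ∈ F.T := F.mem_T_of_two (pow_mem hg m) (IsPGroup.of_card (n := a) (by
    rw [Nat.card_zpowers, orderOf_pow' g hm.pos.ne', ho, Nat.gcd_mul_left_left, Nat.mul_div_cancel _ hm.pos]))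
  obtain ⟨j, rfl⟩ := hm
  have := F.T_le_D hgm
  rw [pow_succ', pow_mul, pow_two] at this
  exact Subgroup.mem_normalizer_iff_map_conj_eq.1 ((Subgroup.mul_mem_cancel_right _ (pow_mem hgg j)).1 this)

theorem N_T_eq : Subgroup.normalizer (F.T : Set G) = F.B := by
  refine le_antisymm (le_inf F.N_T_le F.swap.N_T_le) fun g hg => ?_
  rw [Subgroup.mem_normalizer_iff_map_conj_eq, F.T_eq_sup, Subgroup.map_sup,
    Subgroup.mem_normalizer_iff_map_conj_eq.1 hg.1, Subgroup.mem_normalizer_iff_map_conj_eq.1 hg.2]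

theorem T_le_B : F.T ≤ F.B := le_inf F.T_le_D F.T_le_E

omit [Finite G] in
/-- A conjugate of `T` is again a Sylow 2-subgroup. -/
theorem sylow_conj (g : G) : ∃ S : Sylow 2 G, (S : Subgroup G) = F.T.map (MulAut.conj g).toMonoidHom := by
  obtain ⟨S, hS⟩ := F.sylow
  exact ⟨g • S, by rw [← hS]; rfl⟩

omit [Finite G] in
/-- Two Sylow 2-subgroups inside `K` are conjugate in `K`. -/
theorem conj_in [Finite G] {K : Subgroup G} (S S' : Sylow 2 G) (hS : (S : Subgroup G) ≤ K) (hS' : (S' : Subgroup G) ≤ K) :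
    ∃ k ∈ K, (S : Subgroup G).map (MulAut.conj k).toMonoidHom = S' := by
  haveI : Fact (Nat.Prime 2) := ⟨Nat.prime_two⟩
  obtain ⟨k, hk⟩ := MulAction.exists_smul_eq K (S.subtype hS) (S'.subtype hS')
  rw [Sylow.smul_subtype] at hk
  refine ⟨k, k.2, ?_⟩
  have h := congrArg (fun P : Sylow 2 G => (P : Subgroup G)) (Sylow.subtype_injective hk)
  exact h

/-- A 2-subgroup of `N(D)` lies in a conjugate of `T` inside it. -/
theorem exists_T_ge {P : Subgroup G} (hP : IsPGroup 2 P) (hPN : P ≤ F.ND) :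
    ∃ g ∈ F.ND, P ≤ F.T.map (MulAut.conj g).toMonoidHom := by
  haveI : Fact (Nat.Prime 2) := ⟨Nat.prime_two⟩
  obtain ⟨S, hS⟩ := F.sylow
  obtain ⟨R, hR⟩ := (hP.comap_subtype (K := F.ND)).exists_le_sylow
  obtain ⟨g, hg⟩ := MulAction.exists_smul_eq F.ND (S.subtype (hS.le.trans F.T_le_D)) R
  refine ⟨g, g.2, fun x hx => ?_⟩
  have hxR : (⟨x, hPN hx⟩ : F.ND) ∈ (R : Subgroup F.ND) := hR hx
  rw [← hg, Sylow.smul_subtype] at hxR
  rw [← hS]
  exact hxR

/-- `D` and `E` are not conjugate. -/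
theorem not_conj (g : G) : F.D.map (MulAut.conj g).toMonoidHom ≠ F.E := by
  intro h
  obtain ⟨S, hS⟩ := F.sylow_conj g
  obtain ⟨S₀, hS₀⟩ := F.sylow
  have hSE : (S : Subgroup G) ≤ F.NE := by
    rw [hS]
    rintro _ ⟨t, ht, rfl⟩
    rw [Subgroup.mem_normalizer_iff_map_conj_eq]
    conv_lhs => rw [← h, Subgroup.map_map]
    conv_rhs => rw [← h, ← Subgroup.mem_normalizer_iff_map_conj_eq.1 (F.T_le_D ht), Subgroup.map_map]
    congr 1
    ext y
    simp [mul_assoc]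
  obtain ⟨k, hk, hkS⟩ := conj_in S S₀ hSE (hS₀.le.trans F.T_le_E)
  rw [hS, hS₀, Subgroup.map_map] at hkS
  have hkg : k * g ∈ Subgroup.normalizer (F.T : Set G) := by
    rw [Subgroup.mem_normalizer_iff_map_conj_eq]
    refine Eq.trans ?_ hkS
    congr 1
    ext y
    simp [mul_assoc]
  have h1 := Subgroup.mem_normalizer_iff_map_conj_eq.1 (F.N_T_le hkg)
  have h2 : F.D.map (MulAut.conj (k * g)).toMonoidHom = F.E := by
    refine Eq.trans ?_ (Subgroup.mem_normalizer_iff_map_conj_eq.1 hk)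
    rw [← h, Subgroup.map_map]
    congr 1
    ext y
    simp [mul_assoc]
  have h3 : Nat.card ↥(F.D ⊓ F.E) = 16 := by
    conv_lhs => rw [show F.E = F.D from h2.symm.trans h1, inf_idem]
    exact F.card_D
  rw [F.card_inf] at h3
  omega

/-- Conjugates of `Z` meeting nontrivially belong to the same flag. -/
theorem mem_B_of_meet {g h z : G} (hz : z ≠ 1) (hg : g⁻¹ * z * g ∈ F.Z) (hh : h⁻¹ * z * h ∈ F.Z) :
    g⁻¹ * h ∈ F.B := by
  rw [← F.N_T_eq, Subgroup.mem_normalizer_iff_map_conj_eq]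
  refine Subgroup.eq_of_le_of_card_ge (F.loc _ hg.1 hg.2
    (fun e => hz (conj_eq_one_iff.1 (show g⁻¹ * z * g⁻¹⁻¹ = 1 by rw [inv_inv]; exact e))) _ (F.T_two.map _) ?_)
    (by rw [Subgroup.card_map_of_injective (MulAut.conj _).injective])
  rintro _ ⟨t, ht, rfl⟩
  refine Subgroup.mem_centralizer_singleton_iff.2 ?_
  show g⁻¹ * h * t * (g⁻¹ * h)⁻¹ * (g⁻¹ * z * g) = g⁻¹ * z * g * (g⁻¹ * h * t * (g⁻¹ * h)⁻¹)
  calc g⁻¹ * h * t * (g⁻¹ * h)⁻¹ * (g⁻¹ * z * g) = g⁻¹ * h * (t * (h⁻¹ * z * h)) * (g⁻¹ * h)⁻¹ := by group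
    _ = g⁻¹ * h * ((h⁻¹ * z * h) * t) * (g⁻¹ * h)⁻¹ := by rw [F.comm _ hh.1 hh.2 t ht]
    _ = _ := by group

theorem centralizer_D : Subgroup.centralizer (F.D : Set G) ≤ F.D := F.cent_D

/-- The conjugates of `Z` under `N(D)` inside `D`. -/
noncomputable def zMap : (↥F.ND ⧸ F.B.subgroupOf F.ND) × {z : F.Z // z ≠ 1} → {d : F.D // d ≠ 1} :=
  fun x => ⟨⟨(x.1.out : G) * (x.2.1 : G) * (x.1.out : G)⁻¹, conj_mem_normalizer x.1.out.2 x.2.1.2.1⟩,
    fun e => x.2.2 (Subtype.ext (conj_eq_one_iff.1 (congrArg Subtype.val e)))⟩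

theorem zMap_injective : Function.Injective F.zMap := by
  rintro ⟨c, z⟩ ⟨c', z'⟩ e
  have e' : (c.out : G) * (z.1 : G) * (c.out : G)⁻¹ = (c'.out : G) * (z'.1 : G) * (c'.out : G)⁻¹ :=
    congrArg (fun d : {d : F.D // d ≠ 1} => ((d.1 : F.D) : G)) e
  have hB : (c.out : G)⁻¹ * (c'.out : G) ∈ F.B := by
    refine F.mem_B_of_meet (z := (c.out : G) * (z.1 : G) * (c.out : G)⁻¹)
      (fun h => z.2 (Subtype.ext (conj_eq_one_iff.1 h))) ?_ ?_
    · rw [show (c.out : G)⁻¹ * ((c.out : G) * (z.1 : G) * (c.out : G)⁻¹) * (c.out : G) = (z.1 : G) by group]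
      exact z.1.2
    · rw [e', show (c'.out : G)⁻¹ * ((c'.out : G) * (z'.1 : G) * (c'.out : G)⁻¹) * (c'.out : G) = (z'.1 : G) by group]
      exact z'.1.2
  have hc : c = c' := by
    rw [← QuotientGroup.out_eq' c, ← QuotientGroup.out_eq' c', QuotientGroup.eq, Subgroup.mem_subgroupOf,
      Subgroup.coe_mul, Subgroup.coe_inv]
    exact hB
  subst hc
  refine Prod.ext rfl (Subtype.ext (Subtype.ext ?_))
  exact mul_left_cancel (mul_right_cancel e')

theorem card_ne_one' {A : Type*} [Group A] [Finite A] {n : ℕ} (h : Nat.card A = n) :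
    Nat.card {x : A // x ≠ 1} = n - 1 := by
  classical
  haveI := Fintype.ofFinite A
  rw [Nat.card_eq_fintype_card, Fintype.card_subtype_compl, Fintype.card_subtype_eq,
    ← Nat.card_eq_fintype_card, h]

/-- Every element of `D` is central in a conjugate of `T` inside `N(D)`. -/
theorem exists_mem_Z {d : G} (hd : d ∈ F.D) (hd1 : d ≠ 1) : ∃ g ∈ F.ND, g⁻¹ * d * g ∈ F.Z :=
  F.trans_D d hd hd1

theorem zMap_surjective : Function.Surjective F.zMap := by
  rintro ⟨⟨d, hd⟩, hd1⟩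
  obtain ⟨g, hg, hgz⟩ := F.exists_mem_Z hd fun e => hd1 (Subtype.ext e)
  obtain ⟨⟨b, hb⟩, e⟩ := QuotientGroup.mk_out_eq_mul (F.B.subgroupOf F.ND) ⟨g, hg⟩
  have hz := F.conj_mem_Z (F.B.inv_mem (Subgroup.mem_subgroupOf.1 hb)) hgz
  refine ⟨⟨QuotientGroup.mk ⟨g, hg⟩, ⟨⟨_, hz⟩, fun h => hd1 (Subtype.ext ?_)⟩⟩, Subtype.ext (Subtype.ext ?_)⟩
  · have h' := conj_eq_one_iff.1 (congrArg Subtype.val h)
    exact conj_eq_one_iff.1 (show g⁻¹ * d * g⁻¹⁻¹ = 1 by rw [inv_inv]; exact h')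
  · show ((QuotientGroup.mk (⟨g, hg⟩ : F.ND) : ↥F.ND ⧸ F.B.subgroupOf F.ND).out : G) *
      ((b : G)⁻¹ * (g⁻¹ * d * g) * (b : G)⁻¹⁻¹) *
      ((QuotientGroup.mk (⟨g, hg⟩ : F.ND) : ↥F.ND ⧸ F.B.subgroupOf F.ND).out : G)⁻¹ = d
    rw [e]
    show g * (b : G) * ((b : G)⁻¹ * (g⁻¹ * d * g) * (b : G)⁻¹⁻¹) * (g * (b : G))⁻¹ = d
    group

/-- `T` has exactly five conjugates in `N(D)`. -/
theorem relIndex_B : F.B.relIndex F.ND = 5 := by
  have h := Nat.card_eq_of_bijective _ ⟨F.zMap_injective, F.zMap_surjective⟩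
  rw [Nat.card_prod, card_ne_one' F.card_Z, card_ne_one' F.card_D, ← Subgroup.index_eq_card] at h
  change F.B.relIndex F.ND * 3 = 15 at h
  omega

end Frame

end Cfsg.Agent.L34Sylow.Plane
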