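/-
Counting involutions: a frame has 21 points, any two on a line.

* `Frame.card_lines`, `Frame.card_points` : five lines through a point, five points on a line
* `Frame.card_invol` : there are `15 k` involutions for `k` points
* `Frame.count` : `k = 21` and any two points are collinear
* `Frame.card_G` : the group has order 20160
-/
import Cfsg.Agent.EqLemmas
import Cfsg.Agent.Lib.L34Sylow.Plane.Geometry

set_option autoImplicit false

open Cfsg

namespace Cfsg.Agent.L34Sylow.Plane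

theorem card_and_ne {α : Type*} [Finite α] {P : α → Prop} {a : α} (ha : P a) {n : ℕ}
    (h : Nat.card {x // P x} = n) : Nat.card {x // P x ∧ x ≠ a} = n - 1 := by
  classical
  haveI := Fintype.ofFinite α
  have e : {x // P x ∧ x ≠ a} ≃ {y : {x // P x} // y ≠ ⟨a, ha⟩} :=
    { toFun := fun x => ⟨⟨x.1, x.2.1⟩, fun e => x.2.2 (congrArg Subtype.val e)⟩
      invFun := fun y => ⟨y.1.1, y.1.2, fun e => y.2 (Subtype.ext e)⟩
      left_inv := fun _ => rfl
      right_inv := fun _ => rfl }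
  rw [Nat.card_congr e, Nat.card_eq_fintype_card, Fintype.card_subtype_compl, Fintype.card_subtype_eq,
    ← Nat.card_eq_fintype_card, h]

namespace Frame

variable {G : Type*} [Group G] [Finite G] (F : Frame G)

theorem card_lines (p : G ⧸ F.ND) : Nat.card {l // F.Inc p l} = 5 := by
  obtain ⟨a, rfl⟩ := QuotientGroup.mk_surjective p
  let f : ↥F.ND ⧸ F.B.subgroupOf F.ND → {l // F.Inc (F.pt a) l} := fun c =>
    ⟨F.ln (a * c.out), a * c.out, QuotientGroup.mk_mul_of_mem a c.out.2, rfl⟩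
  have hf : Function.Bijective f := by
    constructor
    · intro c c' e
      have e' : F.ln (a * c.out) = F.ln (a * c'.out) := congrArg Subtype.val e
      rw [← QuotientGroup.out_eq' c, ← QuotientGroup.out_eq' c', QuotientGroup.eq, Subgroup.mem_subgroupOf,
        Subgroup.coe_mul, Subgroup.coe_inv]
      refine ⟨F.ND.mul_mem (F.ND.inv_mem c.out.2) c'.out.2, ?_⟩
      have := QuotientGroup.eq.1 e'
      rwa [show (a * (c.out : G))⁻¹ * (a * (c'.out : G)) = (c.out : G)⁻¹ * (c'.out : G) by group] at this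
    · rintro ⟨_, g, hg, rfl⟩
      have hn : a⁻¹ * g ∈ F.ND := QuotientGroup.eq.1 hg.symm
      refine ⟨QuotientGroup.mk ⟨a⁻¹ * g, hn⟩, Subtype.ext ?_⟩
      obtain ⟨⟨b, hb⟩, e⟩ := QuotientGroup.mk_out_eq_mul (F.B.subgroupOf F.ND) ⟨a⁻¹ * g, hn⟩
      show F.ln (a * ((QuotientGroup.mk (⟨a⁻¹ * g, hn⟩ : F.ND) : ↥F.ND ⧸ F.B.subgroupOf F.ND).out : G)) = F.ln g
      rw [e]
      show F.ln (a * (a⁻¹ * g * (b : G))) = F.ln g
      rw [show a * (a⁻¹ * g * (b : G)) = g * (b : G) by group]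
      exact QuotientGroup.mk_mul_of_mem g (Subgroup.mem_subgroupOf.1 hb).2
  rw [← Nat.card_eq_of_bijective f hf]
  exact F.relIndex_B

theorem card_points (l : G ⧸ F.NE) : Nat.card {p // F.Inc p l} = 5 := by
  rw [← F.swap.card_lines l]
  exact Nat.card_congr (Equiv.subtypeEquivRight fun p => F.swap_Inc.symm)

/-- The flags. -/
abbrev Flag : Type _ := {x : (G ⧸ F.ND) × (G ⧸ F.NE) // F.Inc x.1 x.2}

/-- The involutions. -/
abbrev Invol (G : Type*) [Group G] : Type _ := {i : G // orderOf i = 2}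

/-- The flag of an involution. -/
noncomputable def flag (i : Invol G) : F.Flag :=
  ⟨(F.pt (F.exists_flag i.2).choose, F.ln (F.exists_flag i.2).choose), F.inc_self _⟩

theorem flag_eq (i : Invol G) {g : G} (hg : g⁻¹ * (i : G) * g ∈ F.Z) :
    F.flag i = ⟨(F.pt g, F.ln g), F.inc_self g⟩ := by
  have h := F.flag_unique (fun e => by have := i.2; rw [e, orderOf_one] at this; omega)
    (F.exists_flag i.2).choose_spec hg
  exact Subtype.ext (Prod.ext h.1 h.2)

theorem card_flag : Nat.card F.Flag = Nat.card (G ⧸ F.ND) * 5 := by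
  classical
  haveI := Fintype.ofFinite (G ⧸ F.ND)
  rw [Nat.card_congr (Equiv.subtypeProdEquivSigmaSubtype F.Inc), Nat.card_sigma,
    Finset.sum_congr rfl (fun p _ => F.card_lines p), Finset.sum_const, Finset.card_univ,
    ← Nat.card_eq_fintype_card, smul_eq_mul]

/-- Each flag carries three involutions. -/
theorem card_invol_flag (P : F.Flag → Prop) :
    Nat.card {i : Invol G // P (F.flag i)} = Nat.card {f : F.Flag // P f} * 3 := by
  classical
  let rep : F.Flag → G := fun f => f.2.choose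
  have hrep : ∀ f : F.Flag, (⟨(F.pt (rep f), F.ln (rep f)), F.inc_self _⟩ : F.Flag) = f := fun f =>
    Subtype.ext (Prod.ext f.2.choose_spec.1 f.2.choose_spec.2)
  have hord : ∀ (g : G) (z : {z : F.Z // z ≠ 1}), orderOf (g * (z.1 : G) * g⁻¹) = 2 := fun g z => by
    rw [show g * (z.1 : G) * g⁻¹ = MulAut.conj g (z.1 : G) from rfl, MulEquiv.orderOf_eq]
    exact Involution.orderOf_of_sq (F.sq_D _ z.1.2.1) fun e => z.2 (Subtype.ext e)
  have hmem : ∀ (f : F.Flag) (z : {z : F.Z // z ≠ 1}),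
      F.flag ⟨rep f * (z.1 : G) * (rep f)⁻¹, hord _ _⟩ = f := fun f z => by
    rw [F.flag_eq ⟨_, hord _ _⟩ (g := rep f) (by
      show (rep f)⁻¹ * (rep f * (z.1 : G) * (rep f)⁻¹) * rep f ∈ F.Z
      rw [show (rep f)⁻¹ * (rep f * (z.1 : G) * (rep f)⁻¹) * rep f = (z.1 : G) by group]
      exact z.1.2)]
    exact hrep f
  let φ : {f : F.Flag // P f} × {z : F.Z // z ≠ 1} → {i : Invol G // P (F.flag i)} := fun x =>
    ⟨⟨rep x.1 * (x.2.1 : G) * (rep x.1)⁻¹, hord _ _⟩, by rw [hmem]; exact x.1.2⟩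
  have hφ : Function.Bijective φ := by
    constructor
    · rintro ⟨f, z⟩ ⟨f', z'⟩ e
      have hff : f = f' := Subtype.ext ((hmem f.1 z).symm.trans
        ((congrArg (fun x : {i : Invol G // P (F.flag i)} => F.flag x.1) e).trans (hmem f'.1 z')))
      subst hff
      have e' : rep f.1 * (z.1 : G) * (rep f.1)⁻¹ = rep f.1 * (z'.1 : G) * (rep f.1)⁻¹ :=
        congrArg (fun x : {i : Invol G // P (F.flag i)} => ((x.1 : Invol G) : G)) e
      exact Prod.ext rfl (Subtype.ext (Subtype.ext (mul_left_cancel (mul_right_cancel e'))))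
    · rintro ⟨i, hi⟩
      have hi1 : (i : G) ≠ 1 := fun e => by have := i.2; rw [e, orderOf_one] at this; omega
      set g := (F.exists_flag i.2).choose with hg
      have hgs := (F.exists_flag i.2).choose_spec
      have hB : (rep (F.flag i))⁻¹ * g ∈ F.B := F.eq_B_iff.1
        ⟨congrArg Prod.fst (congrArg Subtype.val (hrep (F.flag i))),
          congrArg Prod.snd (congrArg Subtype.val (hrep (F.flag i)))⟩
      have hz := F.conj_mem_Z hB hgs
      rw [show (rep (F.flag i))⁻¹ * g * (g⁻¹ * (i : G) * g) * ((rep (F.flag i))⁻¹ * g)⁻¹ =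
        (rep (F.flag i))⁻¹ * (i : G) * rep (F.flag i) by group] at hz
      refine ⟨(⟨F.flag i, hi⟩, ⟨⟨_, hz⟩, fun e => hi1 (conj_eq_one_iff.1 (show
        (rep (F.flag i))⁻¹ * (i : G) * (rep (F.flag i))⁻¹⁻¹ = 1 by
          rw [inv_inv]; exact congrArg Subtype.val e))⟩), Subtype.ext (Subtype.ext ?_)⟩
      show rep (F.flag i) * ((rep (F.flag i))⁻¹ * (i : G) * rep (F.flag i)) * (rep (F.flag i))⁻¹ = i
      group
  rw [← Nat.card_eq_of_bijective φ hφ, Nat.card_prod, card_ne_one' F.card_Z]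

theorem card_invol : Nat.card (Invol G) = Nat.card (G ⧸ F.ND) * 15 := by
  have h := F.card_invol_flag fun _ => True
  rw [Nat.card_congr (Equiv.subtypeUnivEquiv fun _ => trivial),
    Nat.card_congr (Equiv.subtypeUnivEquiv fun _ => trivial), F.card_flag] at h
  omega

/-- Collinear with the point `p₀`. -/
def Col (p₀ p : G ⧸ F.ND) : Prop := ∃ l, F.Inc p₀ l ∧ F.Inc p l

theorem card_col (p₀ : G ⧸ F.ND) : Nat.card {p // p ≠ p₀ ∧ F.Col p₀ p} = 20 := by
  classical
  haveI := Fintype.ofFinite {l // F.Inc p₀ l}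
  let f : (Σ l : {l // F.Inc p₀ l}, {p // F.Inc p l.1 ∧ p ≠ p₀}) → {p // p ≠ p₀ ∧ F.Col p₀ p} :=
    fun x => ⟨x.2.1, x.2.2.2, x.1.1, x.1.2, x.2.2.1⟩
  have hf : Function.Bijective f := by
    constructor
    · rintro ⟨⟨l, hl⟩, p, hp⟩ ⟨⟨l', hl'⟩, p', hp'⟩ e
      obtain rfl : p = p' := congrArg Subtype.val e
      obtain rfl : l = l' := F.line_unique hp.2 hp.1 hl hp'.1 hl'
      rfl
    · rintro ⟨p, hne, l, h1, h2⟩
      exact ⟨⟨⟨l, h1⟩, p, h2, hne⟩, rfl⟩
  rw [← Nat.card_eq_of_bijective f hf, Nat.card_sigma,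
    Finset.sum_congr rfl (fun l _ => card_and_ne l.2 (F.card_points l.1)), Finset.sum_const,
    Finset.card_univ, ← Nat.card_eq_fintype_card, F.card_lines, smul_eq_mul]

omit [Finite G] in
theorem smul_pt_one {x : G} : x • F.pt 1 = F.pt 1 ↔ x ∈ F.ND := by
  constructor
  · intro h
    have := F.ND.inv_mem (QuotientGroup.eq.1 h : (x * 1)⁻¹ * 1 ∈ F.ND)
    simpa using this
  · intro h
    exact QuotientGroup.eq.2 (show (x * 1)⁻¹ * 1 ∈ F.ND by simpa using h)

/-- An involution moving the point to a noncollinear one swaps it with it; there are few of them. -/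
theorem card_swap_le {p' : G ⧸ F.ND} (hne : p' ≠ F.pt 1) (hnc : ¬ F.Col (F.pt 1) p') :
    Nat.card {i : Invol G // (i : G) • F.pt 1 = p'} ≤ 14 := by
  classical
  rcases isEmpty_or_nonempty {i : Invol G // (i : G) • F.pt 1 = p'} with he | ⟨⟨⟨u, hu⟩, hup⟩⟩
  · rw [Nat.card_of_isEmpty]; exact Nat.zero_le 14
  change u • F.pt 1 = p' at hup
  set X := MulAction.stabilizer G (F.pt 1) ⊓ MulAction.stabilizer G p' with hX
  have hsw : ∀ i : {i : Invol G // (i : G) • F.pt 1 = p'}, ((i.1 : Invol G) : G) • p' = F.pt 1 := fun i => by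
    have h2 : ((i.1 : Invol G) : G) * i.1 = 1 := by
      rw [← pow_two]
      exact orderOf_dvd_iff_pow_eq_one.1 (dvd_of_eq i.1.2)
    calc ((i.1 : Invol G) : G) • p' = ((i.1 : Invol G) : G) • ((i.1 : Invol G) : G) • F.pt 1 :=
          congrArg (fun q => ((i.1 : Invol G) : G) • q) i.2.symm
      _ = F.pt 1 := by rw [← mul_smul, h2, one_smul]
  have hu' : u • p' = F.pt 1 := hsw ⟨⟨u, hu⟩, hup⟩
  have hu2 : u * u = 1 := by rw [← pow_two, ← hu, pow_orderOf_eq_one]
  have huX : ∀ w ∈ X, u * w * u⁻¹ ∈ X := fun w hw => by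
    have huinv : u⁻¹ = u := inv_eq_of_mul_eq_one_right hu2
    constructor
    · show (u * w * u⁻¹) • F.pt 1 = F.pt 1
      rw [mul_smul, mul_smul, huinv, hup, hw.2, hu']
    · show (u * w * u⁻¹) • p' = p'
      rw [mul_smul, mul_smul, huinv, hu', hw.1, hup]
  have hodd : ¬ 2 ∣ Nat.card X := by
    intro h2
    haveI : Fact (Nat.Prime 2) := ⟨Nat.prime_two⟩
    obtain ⟨i, hi⟩ := exists_prime_orderOf_dvd_card' 2 h2
    have hio : orderOf (i : G) = 2 := by rw [Subgroup.orderOf_coe]; exact hi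
    have hi2 : (i : G) * i = 1 := by rw [← pow_two, ← hio, pow_orderOf_eq_one]
    set j := u * (i : G) * u⁻¹ with hj
    have hjX : j ∈ X := huX _ i.2
    set c := (i : G) * j with hc
    have hcX : c ∈ X := X.mul_mem i.2 hjX
    -- an involution `w` of `X` commuting with an element `x * u`, `x ∈ X`
    obtain ⟨w, x, hw, hwX, hxX, hcomm⟩ : ∃ w x : G, orderOf w = 2 ∧ w ∈ X ∧ x ∈ X ∧ (x * u) * w = w * (x * u) := by
      have hj2 : j * j = 1 := by rw [hj, conj_mul, hi2, mul_one, mul_inv_cancel]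
      have hij : (i : G) * c * (i : G)⁻¹ = c⁻¹ := by
        rw [hc, mul_inv_rev, inv_eq_of_mul_eq_one_right hi2, inv_eq_of_mul_eq_one_right hj2, ← mul_assoc, hi2, one_mul]
      have huc : u * c * u⁻¹ = c⁻¹ := by
        have huj : u * j * u⁻¹ = (i : G) := by
          rw [hj, inv_eq_of_mul_eq_one_right hu2]
          calc u * (u * (i : G) * u) * u = (u * u) * (i : G) * (u * u) := by group
            _ = _ := by rw [hu2, one_mul, mul_one]
        rw [hc, mul_inv_rev, inv_eq_of_mul_eq_one_right hi2, inv_eq_of_mul_eq_one_right hj2, ← conj_mul, ← hj, huj]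
      rcases Nat.even_or_odd (orderOf c) with ⟨s, hs⟩ | ⟨s, hs⟩
      · have hw2 : orderOf (c ^ s) = 2 := by
          have hpos := orderOf_pos c
          rw [orderOf_pow' c (by omega), Nat.gcd_eq_right ⟨2, by omega⟩, hs]
          exact Nat.div_eq_of_eq_mul_left (by omega) (by ring)
        refine ⟨c ^ s, 1, hw2, pow_mem hcX s, X.one_mem, ?_⟩
        rw [one_mul, ← mul_inv_eq_iff_eq_mul, ← conj_pow, huc, inv_pow]
        exact inv_eq_of_mul_eq_one_right (by rw [← pow_add, ← hs, pow_orderOf_eq_one])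
      · refine ⟨i, (c ^ s)⁻¹, hio, i.2, X.inv_mem (pow_mem hcX s), ?_⟩
        have hci : (i : G) * c ^ s = (c ^ s)⁻¹ * i := by
          rw [← mul_inv_eq_iff_eq_mul, ← conj_pow, hij, inv_pow]
        have hji : j = c ^ s * (i : G) * (c ^ s)⁻¹ := by
          have h1 : c ^ s * c ^ s * c = 1 := by
            rw [← pow_add, ← pow_succ, show s + s + 1 = orderOf c by omega, pow_orderOf_eq_one]
          have h2 : (i : G) * (c ^ s)⁻¹ = c ^ s * i := by
            calc (i : G) * (c ^ s)⁻¹ = c ^ s * ((c ^ s)⁻¹ * i) * (c ^ s)⁻¹ := by group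
              _ = c ^ s * i := by rw [← hci]; group
          calc j = (i : G) * c := by rw [hc, ← mul_assoc, hi2, one_mul]
            _ = (i : G) * ((c ^ s)⁻¹ * (c ^ s)⁻¹) := by
              congr 1
              rw [← mul_inv_rev]
              exact eq_inv_of_mul_eq_one_right h1
            _ = c ^ s * (i : G) * (c ^ s)⁻¹ := by rw [← mul_assoc, h2]
        calc (c ^ s)⁻¹ * u * (i : G) = (c ^ s)⁻¹ * j * u := by rw [hj]; group
          _ = (i : G) * ((c ^ s)⁻¹ * u) := by rw [hji]; group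
    have hw1 : w ≠ 1 := fun e => by rw [e, orderOf_one] at hw; omega
    obtain ⟨g, hg⟩ := F.exists_flag hw
    obtain ⟨hfp, hfl⟩ := F.fix_flag hw1 hg hcomm
    have hxu : (x * u) • F.pt 1 = p' := by rw [mul_smul, hup]; exact hxX.2
    rcases F.fix_pt hw hg (hwX.1 : w • F.pt 1 = F.pt 1) with h | h
    · rw [h, hxu] at hfp
      exact hne hfp
    · have h' := F.inc_smul h (x * u)
      rw [hxu, hfl] at h'
      exact hnc ⟨_, h, h'⟩
  have hXle : X ≤ F.ND := fun w hw => F.smul_pt_one.1 hw.1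
  refine le_trans (Nat.card_le_card_of_injective (β := {i : G // orderOf i = 2 ∧ u * i ∈ X})
    (fun i => ⟨((i.1 : Invol G) : G), i.1.2, ?_, ?_⟩) ?_)
    (F.bound_D X hXle (Nat.not_even_iff_odd.1 fun he => hodd (even_iff_two_dvd.1 he)) u hu huX)
  · show (u * ((i.1 : Invol G) : G)) • F.pt 1 = F.pt 1
    rw [mul_smul, i.2, hu']
  · show (u * ((i.1 : Invol G) : G)) • p' = p'
    rw [mul_smul, hsw i, hup]
  · intro a b e
    have e' : ((a.1 : Invol G) : G) = ((b.1 : Invol G) : G) :=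
      congrArg (fun x : {i : G // orderOf i = 2 ∧ u * i ∈ X} => x.1) e
    exact Subtype.ext (Subtype.ext e')

/-- The count. -/
theorem count : Nat.card (G ⧸ F.ND) = 21 ∧ ∀ p p' : G ⧸ F.ND, p ≠ p' → F.Col p p' := by
  classical
  haveI := Fintype.ofFinite (G ⧸ F.ND)
  set p₀ := F.pt 1 with hp₀
  -- the three kinds of involutions
  let A : F.Flag → Prop := fun f => F.Inc p₀ f.1.2
  let B : F.Flag → Prop := fun f => ∃ l, F.Inc p₀ l ∧ F.Inc f.1.1 l ∧ f.1.1 ≠ p₀ ∧ f.1.2 ≠ l
  have hA : Nat.card {f : F.Flag // A f} ≤ 25 := by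
    haveI := Fintype.ofFinite {l // F.Inc p₀ l}
    refine le_trans (Nat.card_le_card_of_injective
      (β := Σ l : {l // F.Inc p₀ l}, {p // F.Inc p l.1})
      (fun f => ⟨⟨f.1.1.2, f.2⟩, ⟨f.1.1.1, f.1.2⟩⟩) ?_) (le_of_eq ?_)
    · rintro ⟨⟨⟨p, l⟩, hf⟩, h1⟩ ⟨⟨⟨p', l'⟩, hf'⟩, h1'⟩ e
      obtain rfl : l = l' := congrArg (fun x : (Σ l : {l // F.Inc p₀ l}, {p // F.Inc p l.1}) => x.1.1) e
      obtain rfl : p = p' := congrArg (fun x : (Σ l : {l // F.Inc p₀ l}, {p // F.Inc p l.1}) => x.2.1) e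
      rfl
    · rw [Nat.card_sigma, Finset.sum_congr rfl (fun l _ => F.card_points l.1), Finset.sum_const,
        Finset.card_univ, ← Nat.card_eq_fintype_card, F.card_lines, smul_eq_mul]
  have hB : Nat.card {f : F.Flag // B f} ≤ 80 := by
    haveI := Fintype.ofFinite {l // F.Inc p₀ l}
    haveI : ∀ l : {l // F.Inc p₀ l}, Fintype {p // F.Inc p l.1 ∧ p ≠ p₀} := fun l => Fintype.ofFinite _
    refine le_trans (Nat.card_le_card_of_injective
      (β := Σ l : {l // F.Inc p₀ l}, Σ p : {p // F.Inc p l.1 ∧ p ≠ p₀}, {l' // F.Inc p.1 l' ∧ l' ≠ l.1})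
      (fun f => ⟨⟨f.2.choose, f.2.choose_spec.1⟩,
        ⟨f.1.1.1, f.2.choose_spec.2.1, f.2.choose_spec.2.2.1⟩,
        ⟨f.1.1.2, f.1.2, f.2.choose_spec.2.2.2⟩⟩) ?_) (le_of_eq ?_)
    · intro f f' e
      have h1 := congrArg (fun x : (Σ l : {l // F.Inc p₀ l}, Σ p : {p // F.Inc p l.1 ∧ p ≠ p₀},
        {l' // F.Inc p.1 l' ∧ l' ≠ l.1}) => ((x.2.1.1 : G ⧸ F.ND), (x.2.2.1 : G ⧸ F.NE))) e
      exact Subtype.ext (Subtype.ext h1)
    · have hin : ∀ l : {l // F.Inc p₀ l}, Nat.card (Σ p : {p // F.Inc p l.1 ∧ p ≠ p₀},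
          {l' // F.Inc p.1 l' ∧ l' ≠ l.1}) = 16 := fun l => by
        rw [Nat.card_sigma, Finset.sum_congr rfl (fun p _ => card_and_ne (P := fun l' => F.Inc p.1 l') (a := l.1) p.2.1 (F.card_lines p.1)),
          Finset.sum_const, Finset.card_univ, ← Nat.card_eq_fintype_card, card_and_ne (P := fun p => F.Inc p l.1) (a := p₀) l.2 (F.card_points l.1),
          smul_eq_mul]
      rw [Nat.card_sigma, Finset.sum_congr rfl (fun l _ => hin l), Finset.sum_const, Finset.card_univ,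
        ← Nat.card_eq_fintype_card, F.card_lines, smul_eq_mul]
  set N := {p // p ≠ p₀ ∧ ¬ F.Col p₀ p} with hN
  haveI : Fintype N := Fintype.ofFinite _
  have hC : Nat.card {i : Invol G // (i : G) • p₀ ≠ p₀ ∧ ¬ F.Col p₀ ((i : G) • p₀)} ≤ Nat.card N * 14 := by
    refine le_trans (Nat.card_le_card_of_injective (β := Σ p : N, {i : Invol G // (i : G) • F.pt 1 = p.1})
      (fun i => ⟨⟨(i.1 : G) • p₀, i.2⟩, ⟨i.1, rfl⟩⟩) ?_) ?_
    · intro i i' e
      exact Subtype.ext (congrArg (fun x : (Σ p : N, {i : Invol G // (i : G) • F.pt 1 = p.1}) => x.2.1) e)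
    · rw [Nat.card_sigma]
      refine le_trans (Finset.sum_le_sum fun p _ => F.card_swap_le p.2.1 p.2.2) (le_of_eq ?_)
      rw [Finset.sum_const, Finset.card_univ, ← Nat.card_eq_fintype_card, smul_eq_mul]
  have hI : Nat.card (Invol G) ≤ Nat.card {f : F.Flag // A f} * 3 + Nat.card {f : F.Flag // B f} * 3 +
      Nat.card {i : Invol G // (i : G) • p₀ ≠ p₀ ∧ ¬ F.Col p₀ ((i : G) • p₀)} := by
    rw [← F.card_invol_flag A, ← F.card_invol_flag B, ← Nat.card_sum, ← Nat.card_sum]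
    have key : ∀ i : Invol G, ¬ A (F.flag i) → ¬ B (F.flag i) →
        (i : G) • p₀ ≠ p₀ ∧ ¬ F.Col p₀ ((i : G) • p₀) := by
      intro i h1 h2
      set g := (F.exists_flag i.2).choose
      have hg := (F.exists_flag i.2).choose_spec
      have hne : (i : G) • p₀ ≠ p₀ := fun h => h1 (((F.fix_pt_iff i.2 hg).1 h).elim
        (fun e => show F.Inc p₀ (F.ln g) from e ▸ F.inc_self g) id)
      refine ⟨hne, fun ⟨l, hl, hl'⟩ => ?_⟩
      have h2' : (i : G) * i = 1 := by
        rw [← pow_two]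
        exact orderOf_dvd_iff_pow_eq_one.1 (dvd_of_eq i.2)
      have hil : (i : G) • l = l := F.line_unique hne
        (F.inc_smul hl i) (by have := F.inc_smul hl' i; rwa [← mul_smul, h2', one_smul] at this) hl' hl
      rcases (F.fix_ln_iff i.2 hg).1 hil with h | h
      · exact h1 (show F.Inc p₀ (F.ln g) from h ▸ hl)
      · refine h2 ⟨l, hl, h, fun e => hne ((F.fix_pt_iff i.2 hg).2 (Or.inl e)), fun e => h1 ?_⟩
        exact (show F.Inc p₀ (F.ln g) from (show F.ln g = l from e) ▸ hl)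
    refine Nat.card_le_card_of_injective (fun i => if h1 : A (F.flag i) then Sum.inl (Sum.inl ⟨i, h1⟩)
      else if h2 : B (F.flag i) then Sum.inl (Sum.inr ⟨i, h2⟩) else Sum.inr ⟨i, key i h1 h2⟩) ?_
    intro i i' e
    simp only at e
    split_ifs at e <;> simp only [Sum.inl.injEq, Sum.inr.injEq, reduceCtorEq, Subtype.mk.injEq] at e <;> exact e
  have hP : Nat.card (G ⧸ F.ND) = 21 + Nat.card N := by
    have h1 := Nat.card_congr (Equiv.sumCompl fun p : G ⧸ F.ND => p = p₀)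
    rw [Nat.card_sum, Nat.card_unique] at h1
    have h2 := Nat.card_congr (Equiv.sumCompl fun p : {p : G ⧸ F.ND // ¬ p = p₀} => F.Col p₀ p.1)
    rw [Nat.card_sum,
      Nat.card_congr (Equiv.subtypeSubtypeEquivSubtypeInter (fun p : G ⧸ F.ND => ¬ p = p₀) (fun p => F.Col p₀ p)),
      Nat.card_congr (Equiv.subtypeSubtypeEquivSubtypeInter (fun p : G ⧸ F.ND => ¬ p = p₀) (fun p => ¬ F.Col p₀ p)),
      F.card_col p₀] at h2
    change 20 + Nat.card N = _ at h2
    omega
  rw [F.card_invol] at hI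
  have hN0 : Nat.card N = 0 := by omega
  refine ⟨by omega, fun p p' hne => ?_⟩
  obtain ⟨a, rfl⟩ := QuotientGroup.mk_surjective p
  by_contra h
  rcases Nat.card_eq_zero.1 hN0 with he | hi
  swap
  · exact hi.not_finite inferInstance
  refine he.false ⟨a⁻¹ • p', fun e => hne ?_, fun ⟨l, h1, h2⟩ => h ⟨a • l, ?_, ?_⟩⟩
  · rw [inv_smul_eq_iff.1 e]
    show F.pt a = F.pt (a * 1)
    rw [mul_one]
  · have := F.inc_smul h1 a
    rwa [show a • p₀ = F.pt a from congrArg F.pt (mul_one a)] at this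
  · have := F.inc_smul h2 a
    rwa [smul_inv_smul] at this

theorem card_G : Nat.card G = 21 * Nat.card F.ND := by
  rw [Subgroup.card_eq_card_quotient_mul_card_subgroup F.ND, F.count.1]

end Frame

end Cfsg.Agent.L34Sylow.Plane
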