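/-
The affine plane of a frame: `E` acts regularly on the 16 points off its line.

* `Frame.exists_coord` : coordinates `χ : K4 × K4 → E` in which the subgroups of `E` attached to the
  points of the line are the five one-dimensional subspaces
* `Frame.inc_base`     : the points of a line through the origin
-/
import Cfsg.Agent.EqLemmas
import Cfsg.Agent.Lib.L34Sylow.Plane.Count
import Cfsg.Agent.Lib.SU32.Basic

set_option autoImplicit false

open Cfsg
open Cfsg.Agent.SU32 (K4)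

namespace Cfsg.Agent.L34Sylow.Plane

/-- A line of `K4 × K4` through the origin, with slope `some c` or `none`. -/
def OnSlope : Option K4 → K4 × K4 → Prop
  | none, v => v.1 = 0
  | some c, v => v.2 = c * v.1

theorem slope_key : ∀ f : K4 → K4,
    f 0 = 0 → (∀ x y, f (x + y) = f x + f y) → (∀ x, x ≠ 0 → f x ≠ 0 ∧ f x ≠ x) →
    f 1 ≠ 0 ∧ f 1 ≠ 1 ∧ f K4.w = f 1 * K4.w := by
  intro f h0 ha hne
  obtain ⟨a1, b1⟩ := hne 1 (by decide)
  obtain ⟨a2, b2⟩ := hne K4.w (by decide)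
  obtain ⟨a3, b3⟩ := hne K4.w2 (by decide)
  rw [show K4.w2 = 1 + K4.w from rfl, ha] at a3 b3
  refine ⟨a1, b1, ?_⟩
  revert a1 b1 a2 b2 a3 b3
  generalize f 1 = c
  generalize f K4.w = d
  revert c d
  decide

theorem additive_eq {f : K4 → K4} (h0 : f 0 = 0) (ha : ∀ x y, f (x + y) = f x + f y)
    (hne : ∀ x, x ≠ 0 → f x ≠ 0 ∧ f x ≠ x) (x : K4) : f x = f 1 * x := by
  obtain ⟨-, -, hw⟩ := slope_key f h0 ha hne
  cases x
  · exact h0.trans (mul_zero _).symm
  · exact (mul_one _).symm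
  · exact hw
  · rw [show K4.w2 = 1 + K4.w from rfl, ha, hw, mul_add, mul_one]

namespace Frame

variable {G : Type*} [Group G] [Finite G] (F : Frame G)

/-- The points of the line of `1`. -/
abbrev OnL : Type _ := {p : G ⧸ F.ND // F.Inc p (F.ln 1)}

theorem rep_mem {g : G} (h : F.ln g = F.ln 1) : g ∈ F.NE := by
  have := F.NE.inv_mem (QuotientGroup.eq.1 h : g⁻¹ * 1 ∈ F.NE)
  simpa using this

/-- The subgroup of `E` attached to a point of its line. -/
noncomputable def ZQ (Q : F.OnL) : Subgroup G := F.Z.map (MulAut.conj Q.2.choose).toMonoidHom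

theorem ZQ_le (Q : F.OnL) : F.ZQ Q ≤ F.E := by
  rintro _ ⟨z, hz, rfl⟩
  exact conj_mem_normalizer (F.rep_mem Q.2.choose_spec.2) hz.2

theorem card_ZQ (Q : F.OnL) : Nat.card (F.ZQ Q) = 4 := by
  rw [ZQ, Subgroup.card_map_of_injective (MulAut.conj Q.2.choose).injective, F.card_Z]

/-- The flag of an element of `ZQ Q`. -/
theorem mem_ZQ_flag {Q : F.OnL} {x : G} (hx : x ∈ F.ZQ Q) :
    ∃ g, g⁻¹ * x * g ∈ F.Z ∧ F.pt g = Q.1 ∧ F.ln g = F.ln 1 := by
  obtain ⟨z, hz, rfl⟩ := hx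
  refine ⟨Q.2.choose, ?_, Q.2.choose_spec.1, Q.2.choose_spec.2⟩
  show Q.2.choose⁻¹ * (Q.2.choose * z * Q.2.choose⁻¹) * Q.2.choose ∈ F.Z
  rwa [show Q.2.choose⁻¹ * (Q.2.choose * z * Q.2.choose⁻¹) * Q.2.choose = z by group]

theorem ZQ_disjoint {Q Q' : F.OnL} (hne : Q ≠ Q') {x : G} (hx : x ∈ F.ZQ Q) (hx' : x ∈ F.ZQ Q') : x = 1 := by
  by_contra h1
  obtain ⟨g, hg, hgp, -⟩ := F.mem_ZQ_flag hx
  obtain ⟨g', hg', hgp', -⟩ := F.mem_ZQ_flag hx'
  exact hne (Subtype.ext (hgp.symm.trans ((F.flag_unique h1 hg hg').1.trans hgp')))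

/-- The elements of `ZQ Q` fix every line through `Q`. -/
theorem ZQ_fix_ln {Q : F.OnL} {x : G} (hx : x ∈ F.ZQ Q) {l : G ⧸ F.NE} (hl : F.Inc Q.1 l) : x • l = l := by
  obtain ⟨z, hz, rfl⟩ := hx
  obtain ⟨h1, -⟩ := Q.2.choose_spec
  exact F.swap.smul_of_mem_E
    (show Q.2.choose⁻¹ * (Q.2.choose * z * Q.2.choose⁻¹) * Q.2.choose ∈ F.D by
      rw [show Q.2.choose⁻¹ * (Q.2.choose * z * Q.2.choose⁻¹) * Q.2.choose = z by group]; exact hz.1)
    (F.swap_Inc.2 (show F.Inc (F.pt Q.2.choose) l by rw [h1]; exact hl))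

/-- Elements of `E` fix the points of their line. -/
theorem E_fix {e : G} (he : e ∈ F.E) {p : G ⧸ F.ND} (hp : F.Inc p (F.ln 1)) : e • p = p :=
  F.smul_of_mem_E (g := 1) (by simpa using he) hp

theorem E_fix_line {e : G} (he : e ∈ F.E) : e • F.ln 1 = F.ln 1 := by
  refine QuotientGroup.eq.2 (show (e * 1)⁻¹ * 1 ∈ F.NE from ?_)
  have := F.NE.inv_mem (Subgroup.le_normalizer he : e ∈ F.NE)
  simpa using this

/-- `E` has no fixed point off its line. -/
theorem E_free {e : G} (he : e ∈ F.E) {p : G ⧸ F.ND} (hp : ¬ F.Inc p (F.ln 1)) (h : e • p = p) : e = 1 := by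
  by_contra h1
  obtain ⟨g, hgE, hg⟩ := F.swap.exists_mem_Z he h1
  have hgln : F.ln g = F.ln 1 := QuotientGroup.eq.2 (show g⁻¹ * 1 ∈ F.NE by simpa using F.NE.inv_mem hgE)
  rcases F.fix_pt (Involution.orderOf_of_sq (F.sq_E e he) h1) (g := g) ⟨hg.2, hg.1⟩ h with e' | e'
  · exact hp (e' ▸ hgln ▸ F.inc_self g)
  · exact hp (hgln ▸ e')

theorem card_off : Nat.card {p : G ⧸ F.ND // ¬ F.Inc p (F.ln 1)} = 16 := by
  classical
  have h := Nat.card_congr (Equiv.sumCompl fun p : G ⧸ F.ND => F.Inc p (F.ln 1))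
  rw [Nat.card_sum, F.card_points, F.count.1] at h
  omega

/-- `E` is transitive off its line. -/
theorem E_trans {o p : G ⧸ F.ND} (ho : ¬ F.Inc o (F.ln 1)) (hp : ¬ F.Inc p (F.ln 1)) : ∃ e ∈ F.E, e • o = p := by
  classical
  let f : F.E → {p : G ⧸ F.ND // ¬ F.Inc p (F.ln 1)} := fun e => ⟨(e : G) • o, fun h => ho (by
    have h1 := F.inc_smul h (e : G)⁻¹
    rwa [inv_smul_smul, F.E_fix_line (F.E.inv_mem e.2)] at h1)⟩
  have hf : Function.Injective f := by
    intro e e' h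
    have h' : (e : G) • o = (e' : G) • o := congrArg Subtype.val h
    have h1 := F.E_free (F.E.mul_mem (F.E.inv_mem e'.2) e.2) ho (by rw [mul_smul, h', inv_smul_smul])
    exact Subtype.ext (inv_mul_eq_one.1 h1).symm
  obtain ⟨e, he⟩ := ((Nat.bijective_iff_injective_and_card f).2 ⟨hf, by rw [F.card_off, F.card_E]⟩).2 ⟨p, hp⟩
  exact ⟨e, e.2, congrArg Subtype.val he⟩

/-- Two different lines meet. -/
theorem exists_meet {l l' : G ⧸ F.NE} (hne : l ≠ l') : ∃ p, F.Inc p l ∧ F.Inc p l' := by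
  obtain ⟨p, h1, h2⟩ := F.swap.count.2 l l' hne
  exact ⟨p, F.swap_Inc.1 h1, F.swap_Inc.1 h2⟩

/-- The points of the line through the origin `o` and `Q`. -/
theorem inc_base {o : G ⧸ F.ND} (ho : ¬ F.Inc o (F.ln 1)) {Q : F.OnL} {m : G ⧸ F.NE} (hom : F.Inc o m)
    (hQm : F.Inc Q.1 m) {e : G} (he : e ∈ F.E) : F.Inc (e • o) m ↔ e ∈ F.ZQ Q := by
  classical
  have hzm : ∀ z ∈ F.ZQ Q, F.Inc (z • o) m := fun z hz => by
    have := F.inc_smul hom z
    rwa [F.ZQ_fix_ln hz hQm] at this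
  refine ⟨fun h => ?_, hzm e⟩
  have hoff : ∀ x ∈ F.E, ¬ F.Inc (x • o) (F.ln 1) := fun x hx h1 => ho (by
    have h2 := F.inc_smul h1 x⁻¹
    rwa [inv_smul_smul, F.E_fix_line (F.E.inv_mem hx)] at h2)
  let f : F.ZQ Q → {p // F.Inc p m ∧ p ≠ Q.1} := fun z =>
    ⟨(z : G) • o, hzm z z.2, fun e' => hoff z (F.ZQ_le Q z.2) (e' ▸ Q.2)⟩
  have hf : Function.Injective f := by
    intro z z' h'
    have h1 : (z : G) • o = (z' : G) • o := congrArg Subtype.val h'
    have h2 := F.E_free (F.E.mul_mem (F.E.inv_mem (F.ZQ_le Q z'.2)) (F.ZQ_le Q z.2)) ho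
      (by rw [mul_smul, h1, inv_smul_smul])
    exact Subtype.ext (inv_mul_eq_one.1 h2).symm
  obtain ⟨z, hz⟩ := ((Nat.bijective_iff_injective_and_card f).2 ⟨hf, by
    rw [card_and_ne (P := fun p => F.Inc p m) (a := Q.1) hQm (F.card_points m), F.card_ZQ]⟩).2
    ⟨e • o, h, fun e' => hoff e he (e' ▸ Q.2)⟩
  have h1 : (z : G) • o = e • o := congrArg Subtype.val hz
  have h2 := F.E_free (F.E.mul_mem (F.E.inv_mem he) (F.ZQ_le Q z.2)) ho (by rw [mul_smul, h1, inv_smul_smul])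
  rw [inv_mul_eq_one.1 h2]
  exact z.2

/-- Homomorphisms from `K4` are given by two elements of the subgroup. -/
def addMap (u v : G) : K4 → G
  | .z => 1
  | .o => u
  | .w => v
  | .w2 => u * v

theorem addMap_add {u v : G} (hu : u * u = 1) (hv : v * v = 1) (huv : u * v = v * u) (x y : K4) :
    addMap u v (x + y) = addMap u v x * addMap u v y := by
  have h1 : v * (u * v) = u := by rw [← mul_assoc, ← huv, mul_assoc, hv, mul_one]
  have h2 : (u * v) * u = v := by rw [huv, mul_assoc, hu, mul_one]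
  cases x <;> cases y
  all_goals first
    | exact (one_mul _).symm
    | exact (mul_one _).symm
    | exact hu.symm
    | exact hv.symm
    | rfl
    | exact huv
    | exact h1.symm
    | exact h2.symm
    | (show v = u * (u * v); rw [← mul_assoc, hu, one_mul])
    | (show u = u * v * v; rw [mul_assoc, hv, mul_one])
    | (show (1 : G) = u * v * (u * v); rw [mul_assoc, h1, hu])

/-- Coordinates of `E` adapted to the five subgroups. -/
theorem exists_coord : ∃ (χ : K4 × K4 → G) (slope : F.OnL → Option K4),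
    (∀ a b, χ (a + b) = χ a * χ b) ∧ Function.Injective χ ∧ (∀ v, χ v ∈ F.E) ∧
      (∀ x ∈ F.E, ∃ v, χ v = x) ∧ Function.Bijective slope ∧ (∀ Q v, χ v ∈ F.ZQ Q ↔ OnSlope (slope Q) v) := by
  classical
  haveI := Fintype.ofFinite F.OnL
  have h5 : Fintype.card F.OnL = 5 := by rw [← Nat.card_eq_fintype_card]; exact F.card_points _
  let q : Fin 5 ≃ F.OnL := (Fintype.equivFinOfCardEq h5).symm
  have hsq : ∀ x ∈ F.E, x * x = 1 := F.sq_E
  have hcomm : ∀ x ∈ F.E, ∀ y ∈ F.E, x * y = y * x := fun x hx y hy => by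
    have h1 := hsq _ (F.E.mul_mem hx hy)
    calc x * y = (x * y)⁻¹ := (inv_eq_of_mul_eq_one_right h1).symm
      _ = y * x := by rw [mul_inv_rev, inv_eq_of_mul_eq_one_right (hsq x hx), inv_eq_of_mul_eq_one_right (hsq y hy)]
  set U := F.ZQ (q 0) with hU
  set W := F.ZQ (q 1) with hW
  set S := F.ZQ (q 2) with hS
  have hUW : q 0 ≠ q 1 := q.injective.ne (by decide)
  have hUS : q 0 ≠ q 2 := q.injective.ne (by decide)
  have hWS : q 1 ≠ q 2 := q.injective.ne (by decide)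
  let m : U × W → F.E := fun p => ⟨(p.1 : G) * p.2, F.E.mul_mem (F.ZQ_le _ p.1.2) (F.ZQ_le _ p.2.2)⟩
  have hm : Function.Injective m := by
    rintro ⟨a, b⟩ ⟨a', b'⟩ e
    have e' : (a : G) * b = a' * b' := congrArg Subtype.val e
    have e2 : (a' : G)⁻¹ * a = b' * (b : G)⁻¹ := by
      rw [eq_mul_inv_iff_mul_eq, mul_assoc, e', inv_mul_cancel_left]
    have h1 := F.ZQ_disjoint hUW (U.mul_mem (U.inv_mem a'.2) a.2) (e2 ▸ W.mul_mem b'.2 (W.inv_mem b.2))
    have ha : a = a' := Subtype.ext (inv_mul_eq_one.1 h1).symm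
    subst ha
    exact Prod.ext rfl (Subtype.ext (mul_left_cancel e'))
  have hmb : Function.Bijective m := (Nat.bijective_iff_injective_and_card m).2
    ⟨hm, by rw [Nat.card_prod, F.card_ZQ, F.card_ZQ, F.card_E]⟩
  -- two elements of the third subgroup
  obtain ⟨s, hs1⟩ : ∃ s : S, s ≠ 1 := by
    haveI : Nontrivial S := Finite.one_lt_card_iff_nontrivial.1 (by rw [F.card_ZQ]; norm_num)
    exact exists_ne 1
  obtain ⟨t, ht1, hts⟩ : ∃ t : S, t ≠ 1 ∧ t ≠ s := by
    by_contra h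
    push Not at h
    have hle : Nat.card S ≤ 2 := by
      rw [show (2 : ℕ) = Nat.card (Fin 2) from (Nat.card_fin 2).symm]
      refine Nat.card_le_card_of_surjective (fun i : Fin 2 => if i = 0 then 1 else s) fun t => ?_
      by_cases ht : t = 1
      · exact ⟨0, by simp [ht]⟩
      · exact ⟨1, by simp [h t ht]⟩
    rw [F.card_ZQ] at hle
    omega
  obtain ⟨⟨u, wu⟩, eu⟩ := hmb.2 ⟨s, F.ZQ_le _ s.2⟩
  obtain ⟨⟨v, wv⟩, ev⟩ := hmb.2 ⟨t, F.ZQ_le _ t.2⟩
  have eu' : (u : G) * wu = s := congrArg Subtype.val eu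
  have ev' : (v : G) * wv = t := congrArg Subtype.val ev
  let α : K4 → G := addMap (u : G) v
  let β : K4 → G := addMap (wu : G) wv
  have hα : ∀ x, α x ∈ U := fun x => by
    cases x <;> first | exact U.one_mem | exact u.2 | exact v.2 | exact U.mul_mem u.2 v.2
  have hβ : ∀ x, β x ∈ W := fun x => by
    cases x <;> first | exact W.one_mem | exact wu.2 | exact wv.2 | exact W.mul_mem wu.2 wv.2
  have hUE : ∀ {x : G}, x ∈ U → x ∈ F.E := fun h => F.ZQ_le _ h
  have hWE : ∀ {x : G}, x ∈ W → x ∈ F.E := fun h => F.ZQ_le _ h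
  have hαadd : ∀ x y, α (x + y) = α x * α y :=
    addMap_add (hsq _ (hUE u.2)) (hsq _ (hUE v.2)) (hcomm _ (hUE u.2) _ (hUE v.2))
  have hβadd : ∀ x y, β (x + y) = β x * β y :=
    addMap_add (hsq _ (hWE wu.2)) (hsq _ (hWE wv.2)) (hcomm _ (hWE wu.2) _ (hWE wv.2))
  have hdiag : ∀ x, α x * β x ∈ S := by
    intro x
    cases x
    · show (1 : G) * 1 ∈ S
      rw [one_mul]; exact S.one_mem
    · show (u : G) * wu ∈ S
      rw [eu']; exact s.2
    · show (v : G) * wv ∈ S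
      rw [ev']; exact t.2
    · show (u : G) * v * ((wu : G) * wv) ∈ S
      rw [show (u : G) * v * ((wu : G) * wv) = u * wu * (v * wv) by
        rw [mul_assoc, ← mul_assoc (v : G) (wu : G), hcomm _ (hUE v.2) _ (hWE wu.2)]; group, eu', ev']
      exact S.mul_mem s.2 t.2
  let χ : K4 × K4 → G := fun p => α p.1 * β p.2
  have hχadd : ∀ a b, χ (a + b) = χ a * χ b := fun a b => by
    show α (a.1 + b.1) * β (a.2 + b.2) = α a.1 * β a.2 * (α b.1 * β b.2)
    rw [hαadd, hβadd, mul_assoc, mul_assoc, ← mul_assoc (α b.1), hcomm _ (hUE (hα b.1)) _ (hWE (hβ a.2)),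
      mul_assoc]
  have hα0 : ∀ x, x ≠ 0 → α x ≠ 1 := by
    intro x hx h
    have h1 : (α x * β x) ∈ S := hdiag x
    rw [h, one_mul] at h1
    have hb := F.ZQ_disjoint hWS (hβ x) h1
    have hst : (u : G) * wu ≠ 1 ∧ (v : G) * wv ≠ 1 ∧ (u : G) * v * ((wu : G) * wv) ≠ 1 := by
      refine ⟨fun e => hs1 (Subtype.ext (eu'.symm.trans e)), fun e => ht1 (Subtype.ext (ev'.symm.trans e)), fun e => hts ?_⟩
      rw [show (u : G) * v * ((wu : G) * wv) = u * wu * (v * wv) by
        rw [mul_assoc, ← mul_assoc (v : G) (wu : G), hcomm _ (hUE v.2) _ (hWE wu.2)]; group, eu', ev'] at e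
      exact Subtype.ext ((eq_inv_of_mul_eq_one_right e).trans (inv_eq_of_mul_eq_one_right (hsq _ (F.ZQ_le _ s.2))))
    cases x
    · exact hx rfl
    · exact hst.1 (by rw [show (u : G) = 1 from h, show (wu : G) = 1 from hb, one_mul])
    · exact hst.2.1 (by rw [show (v : G) = 1 from h, show (wv : G) = 1 from hb, one_mul])
    · exact hst.2.2 (by rw [show (u : G) * v = 1 from h, show (wu : G) * wv = 1 from hb, one_mul])
  have hβ0 : ∀ x, x ≠ 0 → β x ≠ 1 := fun x hx h => by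
    have h1 : (α x * β x) ∈ S := hdiag x
    rw [h, mul_one] at h1
    exact hα0 x hx (F.ZQ_disjoint hUS (hα x) h1)
  have hneg : ∀ x y : K4, x + y = 0 → x = y := by decide
  have hinv : ∀ x, (α x)⁻¹ = α x ∧ (β x)⁻¹ = β x := fun x =>
    ⟨inv_eq_of_mul_eq_one_right (hsq _ (hUE (hα x))), inv_eq_of_mul_eq_one_right (hsq _ (hWE (hβ x)))⟩
  have hχ0 : ∀ p, χ p = 1 → p = 0 := by
    rintro ⟨x, y⟩ e
    have e1 : α x = β y := (eq_inv_of_mul_eq_one_left e).trans (hinv y).2
    have h1 := F.ZQ_disjoint hUW (hα x) (e1 ▸ hβ y)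
    have hx : x = 0 := by_contra fun h => hα0 x h h1
    have hy : y = 0 := by_contra fun h => hβ0 y h (e1 ▸ h1)
    rw [hx, hy]; rfl
  have hχinj : Function.Injective χ := by
    intro a b e
    have h1 : χ (a + b) = 1 := by
      rw [hχadd, e]
      exact hsq _ (F.E.mul_mem (hUE (hα _)) (hWE (hβ _)))
    have h2 := hχ0 _ h1
    exact Prod.ext (hneg _ _ (congrArg Prod.fst h2)) (hneg _ _ (congrArg Prod.snd h2))
  have hχE : ∀ p, χ p ∈ F.E := fun p => F.E.mul_mem (hUE (hα _)) (hWE (hβ _))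
  have hχsurj : ∀ x ∈ F.E, ∃ p, χ p = x := by
    intro x hx
    obtain ⟨p, hp⟩ := ((Nat.bijective_iff_injective_and_card (fun p => (⟨χ p, hχE p⟩ : F.E))).2
      ⟨fun a b e => hχinj (congrArg Subtype.val e), by
        rw [Nat.card_prod, Nat.card_eq_fintype_card (α := K4), SU32.K4.card_eq, F.card_E]⟩).2 ⟨x, hx⟩
    exact ⟨p, congrArg Subtype.val hp⟩
  -- the slopes
  have hslope : ∀ Q, ∃ s : Option K4, ∀ p, OnSlope s p → χ p ∈ F.ZQ Q := by
    intro Q
    by_cases h0 : Q = q 0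
    · refine ⟨some 0, ?_⟩
      rintro ⟨x, y⟩ hp
      have hy : y = 0 := (hp : y = 0 * x).trans (zero_mul x)
      subst hy
      show α x * 1 ∈ _
      rw [mul_one, h0]; exact hα x
    by_cases h1 : Q = q 1
    · refine ⟨none, ?_⟩
      rintro ⟨x, y⟩ hp
      have hx : x = 0 := hp
      subst hx
      show 1 * β y ∈ _
      rw [one_mul, h1]; exact hβ y
    by_cases h2 : Q = q 2
    · refine ⟨some 1, ?_⟩
      rintro ⟨x, y⟩ hp
      have hy : y = x := (hp : y = 1 * x).trans (one_mul x)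
      subst hy
      rw [h2]; exact hdiag _
    -- a further subgroup is the graph of an additive map
    have hproj : ∀ p p', χ p ∈ F.ZQ Q → χ p' ∈ F.ZQ Q → p.1 = p'.1 → p = p' := by
      intro p p' hp hp' e
      have h3 := (F.ZQ Q).mul_mem hp hp'
      rw [← hχadd] at h3
      have h4 : χ (p + p') ∈ W := by
        show α (p.1 + p'.1) * β (p.2 + p'.2) ∈ W
        rw [e, hαadd, hsq _ (hUE (hα _)), one_mul]
        exact hβ _
      have h5 := hχ0 _ (F.ZQ_disjoint h1 h3 h4)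
      exact Prod.ext e (hneg _ _ (congrArg Prod.snd h5))
    let g : F.ZQ Q → K4 := fun x => (hχsurj x (F.ZQ_le Q x.2)).choose.1
    have hgχ : ∀ x : F.ZQ Q, χ (hχsurj x (F.ZQ_le Q x.2)).choose = x := fun x =>
      (hχsurj x (F.ZQ_le Q x.2)).choose_spec
    have hg : Function.Bijective g := by
      refine (Nat.bijective_iff_injective_and_card g).2 ⟨fun x x' e => ?_, by
        rw [F.card_ZQ, Nat.card_eq_fintype_card, SU32.K4.card_eq]⟩
      have := hproj _ _ (by rw [hgχ]; exact x.2) (by rw [hgχ]; exact x'.2) e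
      exact Subtype.ext (by rw [← hgχ x, ← hgχ x', this])
    have hex : ∀ x, ∃ y, χ (x, y) ∈ F.ZQ Q := fun x => by
      obtain ⟨z, hz⟩ := hg.2 x
      refine ⟨(hχsurj z (F.ZQ_le Q z.2)).choose.2, ?_⟩
      rw [← hz]
      exact (hgχ z).symm ▸ z.2
    choose f hf using hex
    have huniq : ∀ x y, χ (x, y) ∈ F.ZQ Q → y = f x := fun x y h =>
      congrArg Prod.snd (hproj (x, y) (x, f x) h (hf x) rfl)
    have h00 : χ (0, 0) ∈ F.ZQ Q := by
      show (1 : G) * 1 ∈ _
      rw [one_mul]; exact (F.ZQ Q).one_mem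
    have hadd : ∀ x y, f (x + y) = f x + f y := fun x y => (huniq _ _ (by
      have := (F.ZQ Q).mul_mem (hf x) (hf y)
      rwa [← hχadd] at this)).symm
    have hne : ∀ x, x ≠ 0 → f x ≠ 0 ∧ f x ≠ x := by
      intro x hx
      constructor
      · intro e
        have h3 : χ (x, 0) ∈ U := by
          show α x * 1 ∈ U
          rw [mul_one]; exact hα x
        exact hx (congrArg Prod.fst (hχ0 _ (F.ZQ_disjoint h0 (e ▸ hf x) h3)))
      · intro e
        have h3 : χ (x, x) ∈ S := hdiag x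
        have h4 : χ (x, x) ∈ F.ZQ Q := by have := hf x; rwa [e] at this
        exact hx (congrArg Prod.fst (hχ0 _ (F.ZQ_disjoint h2 h4 h3)))
    refine ⟨some (f 1), ?_⟩
    rintro ⟨x, y⟩ hp
    rw [show y = f x from (hp : y = f 1 * x).trans (additive_eq (huniq 0 0 h00).symm hadd hne x).symm]
    exact hf x
  choose slope hsl using hslope
  have hmemiff : ∀ Q p, χ p ∈ F.ZQ Q ↔ OnSlope (slope Q) p := by
    intro Q p
    refine ⟨fun h => ?_, hsl Q p⟩
    let k : K4 → F.ZQ Q := fun x => match hsx : slope Q with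
      | none => ⟨χ (0, x), hsl Q _ (by rw [hsx]; rfl)⟩
      | some c => ⟨χ (x, c * x), hsl Q _ (by rw [hsx]; rfl)⟩
    have hk : Function.Injective k := by
      intro x x' e
      simp only [k] at e
      split at e
      · exact congrArg Prod.snd (hχinj (congrArg Subtype.val e))
      · exact congrArg Prod.fst (hχinj (congrArg Subtype.val e))
    obtain ⟨x, hx⟩ := ((Nat.bijective_iff_injective_and_card k).2 ⟨hk, by
      rw [Nat.card_eq_fintype_card, SU32.K4.card_eq, F.card_ZQ]⟩).2 ⟨_, h⟩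
    simp only [k] at hx
    split at hx
    · next hsx => rw [hsx, ← hχinj (congrArg Subtype.val hx)]; rfl
    · next c hsx => rw [hsx, ← hχinj (congrArg Subtype.val hx)]; rfl
  refine ⟨χ, slope, hχadd, hχinj, hχE, hχsurj, ?_, hmemiff⟩
  refine (Nat.bijective_iff_injective_and_card slope).2 ⟨fun Q Q' e => by_contra fun hne => ?_, by
    rw [Finite.card_option, F.card_points, Nat.card_eq_fintype_card, SU32.K4.card_eq]⟩
  obtain ⟨p, hp, hp0⟩ : ∃ p, OnSlope (slope Q) p ∧ p ≠ 0 := by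
    cases slope Q with
    | none => exact ⟨(0, 1), rfl, by decide⟩
    | some c => exact ⟨(1, c), (mul_one c).symm, fun e => one_ne_zero (congrArg Prod.fst e)⟩
  exact hp0 (hχ0 _ (F.ZQ_disjoint hne ((hmemiff Q p).2 hp) ((hmemiff Q' p).2 (e ▸ hp))))

end Frame

end Cfsg.Agent.L34Sylow.Plane
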