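/-
The plane of a frame is the projective plane over `K4`.

* `Frame.Coord`        : coordinates
* `Frame.Coord.ptOf`   : the point with given homogeneous coordinates
* `Frame.Coord.exists_dual`, `Frame.Coord.exists_line` : lines are kernels of linear forms
-/
import Cfsg.Agent.EqLemmas
import Cfsg.Agent.Lib.L34Sylow.Plane.Translations

set_option autoImplicit false

open Cfsg
open Cfsg.Agent.SU32 (K4)

namespace Cfsg.Agent.L34Sylow.Plane

/-- Vectors. -/
abbrev V3 : Type := Fin 3 → K4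

theorem k4_char : ∀ x y : K4, x + y = 0 ↔ x = y := by decide

/-- The value of a linear form. -/
def dotv (a v : V3) : K4 := a 0 * v 0 + a 1 * v 1 + a 2 * v 2

theorem dotv_eq (a v : V3) : dotv a v = dotProduct a v := by
  rw [dotProduct, Fin.sum_univ_three]; rfl

namespace Frame

variable {G : Type*} [Group G] [Finite G] (F : Frame G)

/-- Coordinates. -/
structure Coord where
  /-- Coordinates of `E`. -/
  χ : K4 × K4 → G
  /-- The slope of a point of the line. -/
  slope : F.OnL ≃ Option K4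
  /-- The origin. -/
  o : G ⧸ F.ND
  add : ∀ a b, χ (a + b) = χ a * χ b
  inj : Function.Injective χ
  mem : ∀ v, χ v ∈ F.E
  surj : ∀ x ∈ F.E, ∃ v, χ v = x
  mem_ZQ : ∀ Q v, χ v ∈ F.ZQ Q ↔ OnSlope (slope Q) v
  off : ¬ F.Inc o (F.ln 1)

theorem exists_Coord : Nonempty F.Coord := by
  obtain ⟨χ, slope, h1, h2, h3, h4, h5, h6⟩ := F.exists_coord
  obtain ⟨o, ho⟩ : ∃ o, ¬ F.Inc o (F.ln 1) := by
    by_contra h
    push Not at h
    haveI : IsEmpty {p : G ⧸ F.ND // ¬ F.Inc p (F.ln 1)} := ⟨fun p => p.2 (h _)⟩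
    have := F.card_off
    rw [Nat.card_of_isEmpty] at this
    omega
  exact ⟨⟨χ, Equiv.ofBijective slope h5, o, h1, h2, h3, h4, h6, ho⟩⟩

namespace Coord

variable {F} (C : F.Coord)

/-- The point with given affine coordinates. -/
def aff (v : K4 × K4) : G ⧸ F.ND := C.χ v • C.o

theorem χ_zero : C.χ 0 = 1 := by
  have h := C.add 0 0
  rw [add_zero] at h
  exact mul_eq_left.1 h.symm

theorem aff_off (v : K4 × K4) : ¬ F.Inc (C.aff v) (F.ln 1) := fun h1 => C.off (by
  have h2 := F.inc_smul h1 (C.χ v)⁻¹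
  rwa [aff, inv_smul_smul, F.E_fix_line (F.E.inv_mem (C.mem v))] at h2)

theorem aff_injective : Function.Injective C.aff := by
  intro v w h
  have h' : C.χ v • C.o = C.χ w • C.o := h
  have h1 := F.E_free (F.E.mul_mem (F.E.inv_mem (C.mem w)) (C.mem v)) C.off (by rw [mul_smul, h', inv_smul_smul])
  exact C.inj (inv_mul_eq_one.1 h1).symm

theorem aff_surj {p : G ⧸ F.ND} (hp : ¬ F.Inc p (F.ln 1)) : ∃ v, C.aff v = p := by
  obtain ⟨e, he, rfl⟩ := F.E_trans C.off hp
  obtain ⟨v, rfl⟩ := C.surj e he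
  exact ⟨v, rfl⟩

theorem χ_smul_aff (v w : K4 × K4) : C.χ v • C.aff w = C.aff (v + w) := by
  rw [aff, aff, C.add, mul_smul]

open Classical in
/-- The point with given homogeneous coordinates. -/
noncomputable def ptOf (v : V3) : G ⧸ F.ND :=
  if v 2 ≠ 0 then C.aff (v 0 / v 2, v 1 / v 2)
  else if v 0 ≠ 0 then (C.slope.symm (some (v 1 / v 0))).1 else (C.slope.symm none).1

theorem ptOf_aff {v : V3} (h : v 2 ≠ 0) : C.ptOf v = C.aff (v 0 / v 2, v 1 / v 2) := if_pos h

theorem ptOf_inf {v : V3} (h : v 2 = 0) :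
    C.ptOf v = (C.slope.symm (if v 0 ≠ 0 then some (v 1 / v 0) else none)).1 := by
  classical
  rw [ptOf, if_neg (not_not.2 h)]
  split_ifs <;> rfl

theorem ptOf_on_iff (v : V3) : F.Inc (C.ptOf v) (F.ln 1) ↔ v 2 = 0 := by
  refine ⟨fun h => by_contra fun hv => ?_, fun h => ?_⟩
  · rw [C.ptOf_aff hv] at h
    exact C.aff_off _ h
  · rw [C.ptOf_inf h]
    exact (C.slope.symm _).2

theorem ptOf_smul {k : K4} (hk : k ≠ 0) (v : V3) : C.ptOf (k • v) = C.ptOf v := by
  have h2 : (k • v) 2 = k * v 2 := rfl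
  have h0 : (k • v) 0 = k * v 0 := rfl
  have h1 : (k • v) 1 = k * v 1 := rfl
  by_cases hv : v 2 = 0
  · rw [C.ptOf_inf (by rw [h2, hv, mul_zero]), C.ptOf_inf hv, h0, h1]
    by_cases hv0 : v 0 = 0
    · simp [hv0]
    · rw [if_pos (mul_ne_zero hk hv0), if_pos hv0, mul_div_mul_left _ _ hk]
  · rw [C.ptOf_aff (by rw [h2]; exact mul_ne_zero hk hv), C.ptOf_aff hv, h0, h1, h2,
      mul_div_mul_left _ _ hk, mul_div_mul_left _ _ hk]

theorem ptOf_surj (p : G ⧸ F.ND) : ∃ v : V3, v ≠ 0 ∧ C.ptOf v = p := by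
  by_cases hp : F.Inc p (F.ln 1)
  · cases hs : C.slope ⟨p, hp⟩ with
    | none =>
      refine ⟨![0, 1, 0], fun e => one_ne_zero (congrFun e 1), ?_⟩
      rw [C.ptOf_inf rfl, if_neg (not_not.2 (show (![0, 1, 0] : V3) 0 = 0 from rfl)), ← hs, Equiv.symm_apply_apply]
    | some c =>
      refine ⟨![1, c, 0], fun e => one_ne_zero (congrFun e 0), ?_⟩
      rw [C.ptOf_inf rfl, if_pos (show (![1, c, 0] : V3) 0 ≠ 0 from one_ne_zero),
        show (![1, c, 0] : V3) 1 / (![1, c, 0] : V3) 0 = c from div_one c, ← hs, Equiv.symm_apply_apply]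
  · obtain ⟨⟨x, y⟩, rfl⟩ := C.aff_surj hp
    refine ⟨![x, y, 1], fun e => one_ne_zero (congrFun e 2), ?_⟩
    rw [C.ptOf_aff (show (![x, y, 1] : V3) 2 ≠ 0 from one_ne_zero)]
    show C.aff (x / 1, y / 1) = _
    rw [div_one, div_one]

theorem eq_smul_of_ptOf_eq {v w : V3} (hv : v ≠ 0) (hw : w ≠ 0) (h : C.ptOf v = C.ptOf w) :
    ∃ k : K4, k ≠ 0 ∧ w = k • v := by
  have hiff : v 2 = 0 ↔ w 2 = 0 := by rw [← C.ptOf_on_iff, ← C.ptOf_on_iff, h]
  by_cases hv2 : v 2 = 0
  · have hw2 := hiff.1 hv2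
    rw [C.ptOf_inf hv2, C.ptOf_inf hw2] at h
    have h' := C.slope.symm.injective (Subtype.ext h)
    have hv1 : v 0 = 0 → v 1 ≠ 0 := fun h0 h1 => hv (funext fun i => by fin_cases i <;> assumption)
    have hw1 : w 0 = 0 → w 1 ≠ 0 := fun h0 h1 => hw (funext fun i => by fin_cases i <;> assumption)
    by_cases hv0 : v 0 = 0
    · by_cases hw0 : w 0 = 0
      · refine ⟨w 1 / v 1, div_ne_zero (hw1 hw0) (hv1 hv0), funext fun i => ?_⟩
        fin_cases i
        · show w 0 = w 1 / v 1 * v 0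
          rw [hw0, hv0, mul_zero]
        · show w 1 = w 1 / v 1 * v 1
          rw [div_mul_cancel₀ _ (hv1 hv0)]
        · show w 2 = w 1 / v 1 * v 2
          rw [hw2, hv2, mul_zero]
      · rw [if_neg (not_not.2 hv0), if_pos hw0] at h'
        cases h'
    · by_cases hw0 : w 0 = 0
      · rw [if_pos hv0, if_neg (not_not.2 hw0)] at h'
        cases h'
      · rw [if_pos hv0, if_pos hw0] at h'
        have h'' := Option.some_injective _ h'
        refine ⟨w 0 / v 0, div_ne_zero hw0 hv0, funext fun i => ?_⟩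
        fin_cases i
        · show w 0 = w 0 / v 0 * v 0
          rw [div_mul_cancel₀ _ hv0]
        · show w 1 = w 0 / v 0 * v 1
          rw [div_mul_eq_mul_div, mul_div_assoc, h'', mul_div_cancel₀ _ hw0]
        · show w 2 = w 0 / v 0 * v 2
          rw [hw2, hv2, mul_zero]
  · have hw2 : w 2 ≠ 0 := fun e => hv2 (hiff.2 e)
    rw [C.ptOf_aff hv2, C.ptOf_aff hw2] at h
    have h' := C.aff_injective h
    refine ⟨w 2 / v 2, div_ne_zero hw2 hv2, funext fun i => ?_⟩
    fin_cases i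
    · show w 0 = w 2 / v 2 * v 0
      rw [div_mul_eq_mul_div, mul_div_assoc, show v 0 / v 2 = w 0 / w 2 from (Prod.ext_iff.1 h').1, mul_div_cancel₀ _ hw2]
    · show w 1 = w 2 / v 2 * v 1
      rw [div_mul_eq_mul_div, mul_div_assoc, show v 1 / v 2 = w 1 / w 2 from (Prod.ext_iff.1 h').2, mul_div_cancel₀ _ hw2]
    · show w 2 = w 2 / v 2 * v 2
      rw [div_mul_cancel₀ _ hv2]

/-- `a` is the linear form of the line `m`. -/
def Dual (m : G ⧸ F.NE) (a : V3) : Prop := a ≠ 0 ∧ ∀ v : V3, v ≠ 0 → (F.Inc (C.ptOf v) m ↔ dotv a v = 0)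

theorem dual_base : C.Dual (F.ln 1) ![0, 0, 1] := by
  refine ⟨fun e => one_ne_zero (congrFun e 2), fun v _ => ?_⟩
  rw [C.ptOf_on_iff]
  show v 2 = 0 ↔ (0 : K4) * v 0 + 0 * v 1 + 1 * v 2 = 0
  rw [zero_mul, zero_mul, zero_add, zero_add, one_mul]

/-- The form of the line through an affine point with a given slope. -/
def form : Option K4 → K4 × K4 → V3
  | none, p => ![1, 0, p.1]
  | some c, p => ![c, 1, c * p.1 + p.2]

theorem onSlope_iff (s : Option K4) (p q : K4 × K4) :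
    OnSlope s (p + q) ↔ dotv (form s q) ![p.1, p.2, 1] = 0 := by
  cases s with
  | none =>
    show p.1 + q.1 = 0 ↔ 1 * p.1 + 0 * p.2 + q.1 * 1 = 0
    rw [one_mul, zero_mul, add_zero, mul_one]
  | some c =>
    show p.2 + q.2 = c * (p.1 + q.1) ↔ c * p.1 + 1 * p.2 + (c * q.1 + q.2) * 1 = 0
    rw [← k4_char, one_mul, mul_one, mul_add,
      show p.2 + q.2 + (c * p.1 + c * q.1) = c * p.1 + p.2 + (c * q.1 + q.2) by ring]

theorem dual_of {m : G ⧸ F.NE} {q : K4 × K4} {Q : F.OnL} (h1 : F.Inc (C.aff q) m) (h2 : F.Inc Q.1 m) :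
    C.Dual m (form (C.slope Q) q) := by
  refine ⟨?_, fun v hv => ?_⟩
  · cases C.slope Q with
    | none => exact fun e => one_ne_zero (congrFun e 0)
    | some c => exact fun e => one_ne_zero (congrFun e 1)
  by_cases hv2 : v 2 = 0
  · have hQ : F.Inc (C.ptOf v) m ↔ C.ptOf v = Q.1 := by
      refine ⟨fun h => by_contra fun hne => ?_, fun e => e ▸ h2⟩
      have hm := F.line_unique hne h h2 ((C.ptOf_on_iff v).2 hv2) Q.2
      exact C.aff_off q (hm ▸ h1)
    rw [hQ, C.ptOf_inf hv2, ← Subtype.ext_iff, Equiv.symm_apply_eq]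
    have hv1 : v 0 = 0 → v 1 ≠ 0 := fun h0 h1 => hv (funext fun i => by fin_cases i <;> assumption)
    cases C.slope Q with
    | none =>
      show _ ↔ (1 : K4) * v 0 + 0 * v 1 + q.1 * v 2 = 0
      rw [one_mul, zero_mul, add_zero, hv2, mul_zero, add_zero]
      split_ifs with h0
      · exact iff_of_false (by simp) h0
      · exact iff_of_true rfl (not_not.1 h0)
    | some c =>
      show _ ↔ c * v 0 + 1 * v 1 + (c * q.1 + q.2) * v 2 = 0
      rw [one_mul, hv2, mul_zero, add_zero, k4_char]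
      split_ifs with h0
      · rw [Option.some_inj, div_eq_iff h0, eq_comm]
      · exact iff_of_false (by simp) fun e => hv1 (not_not.1 h0) (by rw [← e, not_not.1 h0, mul_zero])
  · rw [C.ptOf_aff hv2]
    set p : K4 × K4 := (v 0 / v 2, v 1 / v 2) with hp
    have e1 : C.aff p = C.χ (p + q) • C.aff q := by
      rw [C.χ_smul_aff, add_assoc, show q + q = 0 from Prod.ext ((k4_char _ _).2 rfl) ((k4_char _ _).2 rfl), add_zero]
    rw [e1, F.inc_base (C.aff_off q) h1 h2 (C.mem _), C.mem_ZQ, onSlope_iff]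
    have h3 : v 2 • (![p.1, p.2, 1] : V3) = v := funext fun i => by
      fin_cases i
      · exact mul_div_cancel₀ _ hv2
      · exact mul_div_cancel₀ _ hv2
      · exact mul_one _
    conv_rhs => rw [← h3, dotv_eq, dotProduct_smul, smul_eq_mul, ← dotv_eq, mul_eq_zero, or_iff_right hv2]

theorem exists_dual (m : G ⧸ F.NE) : ∃ a, C.Dual m a := by
  by_cases hm : m = F.ln 1
  · exact ⟨_, hm ▸ C.dual_base⟩
  obtain ⟨P, hP, hP'⟩ := F.exists_meet hm
  obtain ⟨p, hp, hp'⟩ : ∃ p, F.Inc p m ∧ p ≠ P := by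
    by_contra h
    push Not at h
    haveI : Subsingleton {p // F.Inc p m} := ⟨fun a b => Subtype.ext ((h _ a.2).trans (h _ b.2).symm)⟩
    have := Finite.card_le_one_iff_subsingleton.2 this
    rw [F.card_points] at this
    omega
  have hpoff : ¬ F.Inc p (F.ln 1) := fun h => hm (F.line_unique hp' hp hP h hP')
  obtain ⟨q, rfl⟩ := C.aff_surj hpoff
  exact ⟨_, C.dual_of (Q := ⟨P, hP'⟩) hp hP⟩

theorem exists_line (a : V3) (ha : a ≠ 0) : ∃ m, C.Dual m a := by
  have key : ∀ (s : Option K4) (q : K4 × K4) (k : K4), k ≠ 0 → a = k • form s q → ∃ m, C.Dual m a := by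
    intro s q k hk e
    obtain ⟨Q, rfl⟩ := C.slope.surjective s
    obtain ⟨m, h1, h2⟩ := F.count.2 (C.aff q) Q.1 fun h => C.aff_off q (h ▸ Q.2)
    obtain ⟨-, hd⟩ := C.dual_of h1 h2
    refine ⟨m, ha, fun v hv => ?_⟩
    rw [hd v hv, e, dotv_eq, dotv_eq, smul_dotProduct, smul_eq_mul, mul_eq_zero, or_iff_right hk]
  by_cases h1 : a 1 = 0
  · by_cases h0 : a 0 = 0
    · refine ⟨F.ln 1, ha, fun v hv => ?_⟩
      have h2 : a 2 ≠ 0 := fun h2 => ha (funext fun i => by fin_cases i <;> assumption)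
      rw [C.ptOf_on_iff]
      show v 2 = 0 ↔ a 0 * v 0 + a 1 * v 1 + a 2 * v 2 = 0
      rw [h0, h1, zero_mul, zero_mul, zero_add, zero_add, mul_eq_zero, or_iff_right h2]
    · refine key none (a 2 / a 0, 0) (a 0) h0 (funext fun i => ?_)
      fin_cases i
      · exact (mul_one _).symm
      · exact h1.trans (mul_zero _).symm
      · exact (mul_div_cancel₀ _ h0).symm
  · refine key (some (a 0 / a 1)) (0, a 2 / a 1) (a 1) h1 (funext fun i => ?_)
    fin_cases i
    · exact (mul_div_cancel₀ _ h1).symm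
    · exact (mul_one _).symm
    · show a 2 = a 1 * (a 0 / a 1 * 0 + a 2 / a 1)
      rw [mul_zero, zero_add, mul_div_cancel₀ _ h1]

end Coord

end Frame

end Cfsg.Agent.L34Sylow.Plane
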