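/-
A simple group with a frame is `PSL₃(4)`.

* `Frame.Coord.act`        : `SL₃(4)` on the points
* `Frame.Coord.conj_mem`   : the conjugates of `E` act as elements of `SL₃(4)`
* `Frame.nonempty_psl`     : the identification
-/
import Cfsg.Agent.EqLemmas
import Cfsg.Agent.Lib.L34Sylow.Plane.Coords
import Cfsg.Agent.Lib.GLOrder.Basic

set_option autoImplicit false

open Cfsg Matrix
open Cfsg.Agent.SU32 (K4)

namespace Cfsg.Agent.L34Sylow.Plane

/-- `SL₃(4)`. -/
abbrev S3 : Type := Matrix.SpecialLinearGroup (Fin 3) K4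

theorem mulVec_ne_zero (s : S3) {v : V3} (hv : v ≠ 0) : s.1 *ᵥ v ≠ 0 := fun e => hv (by
  have h : (s⁻¹).1 * s.1 = 1 := by
    rw [← Matrix.SpecialLinearGroup.coe_mul, inv_mul_cancel]; rfl
  calc v = (1 : Matrix (Fin 3) (Fin 3) K4) *ᵥ v := (one_mulVec v).symm
    _ = 0 := by rw [← h, ← mulVec_mulVec, e, mulVec_zero])

/-- The translation by `t`. -/
def transl (t : K4 × K4) : S3 :=
  ⟨!![1, 0, t.1; 0, 1, t.2; 0, 0, 1], by simp [Matrix.det_fin_three]⟩

theorem transl_mulVec (t : K4 × K4) (v : V3) :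
    (transl t).1 *ᵥ v = ![v 0 + t.1 * v 2, v 1 + t.2 * v 2, v 2] := by
  funext i
  fin_cases i <;> simp [transl, Matrix.mulVec, dotProduct, Fin.sum_univ_three]

theorem char_two : ∀ x : K4, x + x = 0 := by decide

/-- An element moving the line at infinity to any line. -/
theorem exists_line_map (a : V3) (ha : a ≠ 0) :
    ∃ s : S3, ∀ v : V3, dotv a (s.1 *ᵥ v) = 0 ↔ v 2 = 0 := by
  by_cases h2 : a 2 = 0
  · by_cases h1 : a 1 = 0
    · have h0 : a 0 ≠ 0 := fun h0 => ha (funext fun i => by fin_cases i <;> assumption)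
      refine ⟨⟨!![0, 0, 1; 0, 1, 0; 1, 0, 0], by
        simp [Matrix.det_fin_three]; decide⟩, fun v => ?_⟩
      simp [dotv, Matrix.mulVec, dotProduct, Fin.sum_univ_three, h1, h2, h0]
    · refine ⟨⟨!![1, 0, 0; a 0 / a 1, 0, 1; 0, 1, 0], by
        simp [Matrix.det_fin_three]; decide⟩, fun v => ?_⟩
      simp [dotv, Matrix.mulVec, dotProduct, Fin.sum_univ_three, h2]
      rw [mul_add, ← mul_assoc, mul_div_cancel₀ _ h1, ← add_assoc, char_two, zero_add, mul_eq_zero, or_iff_right h1]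
  · refine ⟨⟨!![1, 0, 0; 0, 1, 0; a 0 / a 2, a 1 / a 2, 1], by
      simp [Matrix.det_fin_three]⟩, fun v => ?_⟩
    simp [dotv, Matrix.mulVec, dotProduct, Fin.sum_univ_three]
    rw [mul_add, mul_add, ← mul_assoc, ← mul_assoc, mul_div_cancel₀ _ h2, mul_div_cancel₀ _ h2,
      show a 0 * v 0 + a 1 * v 1 + (a 0 * v 0 + a 1 * v 1 + a 2 * v 2) =
        (a 0 * v 0 + a 0 * v 0) + (a 1 * v 1 + a 1 * v 1) + a 2 * v 2 by ring,
      char_two, char_two, zero_add, zero_add, mul_eq_zero, or_iff_right h2]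

namespace Frame

variable {G : Type*} [Group G] [Finite G] (F : Frame G)

namespace Coord

variable {F} (C : F.Coord)

/-- Homogeneous coordinates of a point. -/
noncomputable def vec (p : G ⧸ F.ND) : V3 := (C.ptOf_surj p).choose

theorem vec_ne (p : G ⧸ F.ND) : C.vec p ≠ 0 := (C.ptOf_surj p).choose_spec.1

theorem ptOf_vec (p : G ⧸ F.ND) : C.ptOf (C.vec p) = p := (C.ptOf_surj p).choose_spec.2

/-- The image of a point under a matrix. -/
noncomputable def actFun (s : S3) (p : G ⧸ F.ND) : G ⧸ F.ND := C.ptOf (s.1 *ᵥ C.vec p)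

theorem actFun_ptOf (s : S3) {v : V3} (hv : v ≠ 0) : C.actFun s (C.ptOf v) = C.ptOf (s.1 *ᵥ v) := by
  obtain ⟨k, hk, e⟩ := C.eq_smul_of_ptOf_eq hv (C.vec_ne _) (C.ptOf_vec (C.ptOf v)).symm
  rw [actFun, e, mulVec_smul, C.ptOf_smul hk]

/-- `SL₃(4)` permutes the points. -/
noncomputable def act : S3 →* Equiv.Perm (G ⧸ F.ND) :=
  haveI key : ∀ (s t : S3) (p : G ⧸ F.ND), C.actFun (s * t) p = C.actFun s (C.actFun t p) := fun s t p => by
    rw [show C.actFun t p = C.ptOf (t.1 *ᵥ C.vec p) from rfl, C.actFun_ptOf _ (mulVec_ne_zero t (C.vec_ne p)),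
      mulVec_mulVec]
    rfl
  haveI one : ∀ p, C.actFun 1 p = p := fun p => by
    show C.ptOf ((1 : Matrix (Fin 3) (Fin 3) K4) *ᵥ C.vec p) = p
    rw [one_mulVec, C.ptOf_vec]
  { toFun := fun s => ⟨C.actFun s, C.actFun s⁻¹,
      fun p => by rw [← key, inv_mul_cancel, one], fun p => by rw [← key, mul_inv_cancel, one]⟩
    map_one' := Equiv.ext one
    map_mul' := fun s t => Equiv.ext (key s t) }

theorem act_ptOf (s : S3) {v : V3} (hv : v ≠ 0) : C.act s (C.ptOf v) = C.ptOf (s.1 *ᵥ v) := C.actFun_ptOf s hv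

theorem act_center {s : S3} (hs : s ∈ Subgroup.center S3) : C.act s = 1 := by
  obtain ⟨r, hr, e⟩ := Matrix.SpecialLinearGroup.mem_center_iff.1 hs
  have hr0 : r ≠ 0 := fun h => by
    rw [h, Fintype.card_fin] at hr
    simp at hr
  refine Equiv.ext fun p => ?_
  show C.ptOf (s.1 *ᵥ C.vec p) = p
  rw [← e, Matrix.scalar_apply, show Matrix.diagonal (fun _ => r) *ᵥ C.vec p = r • C.vec p from
    funext fun i => by rw [mulVec_diagonal]; rfl, C.ptOf_smul hr0, C.ptOf_vec]

/-- Mapping lines into lines. -/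
def LineMap (π : G ⧸ F.ND → G ⧸ F.ND) : Prop := ∀ m, ∃ m', ∀ p, F.Inc p m → F.Inc (π p) m'

theorem lineMap_act (s : S3) : LineMap (C.act s) := by
  intro m
  obtain ⟨a, ha, hd⟩ := C.exists_dual m
  have hss : ∀ v : V3, (s⁻¹).1 *ᵥ (s.1 *ᵥ v) = v := fun v => by
    rw [mulVec_mulVec, ← Matrix.SpecialLinearGroup.coe_mul, inv_mul_cancel]
    exact one_mulVec v
  have hb : a ᵥ* (s⁻¹).1 ≠ 0 := fun e => ha (by
    have h : (s⁻¹).1 * s.1 = 1 := by
      rw [← Matrix.SpecialLinearGroup.coe_mul, inv_mul_cancel]; rfl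
    calc a = a ᵥ* (1 : Matrix (Fin 3) (Fin 3) K4) := (vecMul_one a).symm
      _ = 0 := by rw [← h, ← vecMul_vecMul, e, zero_vecMul])
  obtain ⟨m', -, hd'⟩ := C.exists_line _ hb
  refine ⟨m', fun p hp => ?_⟩
  rw [← C.ptOf_vec p, C.act_ptOf s (C.vec_ne p), hd' _ (mulVec_ne_zero s (C.vec_ne p)), dotv_eq,
    ← dotProduct_mulVec, hss, ← dotv_eq, ← hd _ (C.vec_ne p), C.ptOf_vec]
  exact hp

theorem act_transl (t : K4 × K4) (p : G ⧸ F.ND) : C.act (transl t) p = C.χ t • p := by
  obtain ⟨v, hv, rfl⟩ := C.ptOf_surj p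
  rw [C.act_ptOf _ hv, transl_mulVec]
  by_cases hv2 : v 2 = 0
  · rw [F.E_fix (C.mem t) ((C.ptOf_on_iff v).2 hv2)]
    congr 1
    funext i
    fin_cases i <;> simp [hv2]
  · rw [C.ptOf_aff hv2, C.ptOf_aff (show (![v 0 + t.1 * v 2, v 1 + t.2 * v 2, v 2] : V3) 2 ≠ 0 from hv2),
      C.χ_smul_aff]
    congr 1
    show ((v 0 + t.1 * v 2) / v 2, (v 1 + t.2 * v 2) / v 2) = (t.1 + v 0 / v 2, t.2 + v 1 / v 2)
    rw [add_div, add_div, mul_div_assoc, div_self hv2, mul_one, mul_div_assoc, div_self hv2, mul_one,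
      add_comm (v 0 / v 2), add_comm (v 1 / v 2)]

/-- A line map fixing the base line pointwise and nothing else is a translation. -/
theorem eq_transl (h : Equiv.Perm (G ⧸ F.ND)) (hlm : LineMap h)
    (hfix : ∀ p, F.Inc p (F.ln 1) → h p = p) (hfree : ∀ p, h p = p → F.Inc p (F.ln 1)) :
    ∃ t, h = C.act (transl t) := by
  have hoff : ∀ p, ¬ F.Inc p (F.ln 1) → ¬ F.Inc (h p) (F.ln 1) := fun p hp hh =>
    hp (by rwa [h.injective (hfix _ hh)] at hh)
  have hH : ∀ v, ∃ w, C.aff w = h (C.aff v) := fun v => C.aff_surj (hoff _ (C.aff_off v))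
  choose H hH' using hH
  have hline : ∀ (Q : F.OnL) v w (m : G ⧸ F.NE), F.Inc (C.aff v) m → F.Inc Q.1 m →
      (F.Inc (C.aff w) m ↔ OnSlope (C.slope Q) (w + v)) := fun Q v w m h1 h2 => by
    rw [show C.aff w = C.χ (w + v) • C.aff v by
      rw [C.χ_smul_aff, add_assoc, show v + v = 0 from Prod.ext (char_two _) (char_two _), add_zero],
      F.inc_base (C.aff_off v) h1 h2 (C.mem _), C.mem_ZQ]
  have hpar : ∀ s v w, OnSlope s (v + w) → OnSlope s (H v + H w) := by
    intro s v w hs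
    obtain ⟨Q, rfl⟩ := C.slope.surjective s
    obtain ⟨m, h1, h2⟩ := F.count.2 (C.aff v) Q.1 fun e => C.aff_off v (e ▸ Q.2)
    have h3 : F.Inc (C.aff w) m := (hline Q v w m h1 h2).2 (by rwa [add_comm])
    obtain ⟨m', hm'⟩ := hlm m
    have := (hline Q (H v) (H w) m' (hH' v ▸ hm' _ h1) (by have := hm' _ h2; rwa [hfix _ Q.2] at this)).1
      (hH' w ▸ hm' _ h3)
    rwa [add_comm] at this
  set t := H 0 with ht
  have hz : ∀ x y : K4 × K4, (x + y).1 = x.1 + y.1 ∧ (x + y).2 = x.2 + y.2 := fun x y => ⟨rfl, rfl⟩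
  set k := (H (1, 0)).1 + t.1 with hk
  -- the linear part is the homothety of ratio `k`
  have hA : ∀ x, (H (x, 0)).2 + t.2 = 0 := fun x => by
    have := hpar (some 0) (x, 0) 0 (show (x, (0 : K4)).2 + (0 : K4 × K4).2 = 0 * _ by simp)
    exact (this : (H (x, 0)).2 + t.2 = 0 * _).trans (zero_mul _)
  have hB : ∀ y, (H (0, y)).1 + t.1 = 0 := fun y => hpar none (0, y) 0 (show (0 : K4) + 0 = 0 from add_zero 0)
  have hV : ∀ x y, (H (x, y)).1 = (H (x, 0)).1 := fun x y =>
    (k4_char _ _).1 (hpar none (x, y) (x, 0) (show x + x = 0 from char_two x))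
  have hW : ∀ x y, (H (x, y)).2 = (H (0, y)).2 := fun x y => (k4_char _ _).1
    ((hpar (some 0) (x, y) (0, y) (show y + y = 0 * _ by rw [char_two, zero_mul]) :
      (H (x, y)).2 + (H (0, y)).2 = 0 * _).trans (zero_mul _))
  -- diagonal and antidiagonal
  have hD : ∀ x y, x ≠ 0 → (H (0, y)).2 + t.2 = y / x * ((H (x, 0)).1 + t.1) := by
    intro x y hx
    have := hpar (some (y / x)) (x, y) 0 (show y + 0 = y / x * (x + 0) by rw [add_zero, add_zero, div_mul_cancel₀ _ hx])
    rw [show (H (0, y)).2 = (H (x, y)).2 from (hW x y).symm, ← hV x y]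
    exact this
  have hy : ∀ y, (H (0, y)).2 + t.2 = k * y := fun y => by
    rw [hD 1 y one_ne_zero, div_one, mul_comm]
  have hx : ∀ x, (H (x, 0)).1 + t.1 = k * x := fun x => by
    by_cases hx0 : x = 0
    · subst hx0
      rw [mul_zero]
      exact char_two _
    · have := hD x x hx0
      rw [hy, div_self hx0, one_mul] at this
      exact this.symm
  have hform : ∀ v, H v = (k * v.1 + t.1, k * v.2 + t.2) := fun ⟨x, y⟩ => Prod.ext
    (by show (H (x, y)).1 = k * x + t.1; rw [hV, ← hx, add_assoc, char_two, add_zero])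
    (by show (H (x, y)).2 = k * y + t.2; rw [hW, ← hy, add_assoc, char_two, add_zero])
  have hk1 : k = 1 := by
    by_contra hk1
    have hk' : k + 1 ≠ 0 := fun e => hk1 ((k4_char _ _).1 e)
    refine C.aff_off (t.1 / (k + 1), t.2 / (k + 1)) (hfree _ ?_)
    rw [← hH', hform]
    congr 1
    have aux : ∀ s : K4, k * (s / (k + 1)) + s = s / (k + 1) := fun s => by
      apply (k4_char _ _).1
      rw [show k * (s / (k + 1)) + s + s / (k + 1) = (k + 1) * (s / (k + 1)) + s by ring,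
        mul_div_cancel₀ _ hk', char_two]
    exact Prod.ext (aux _) (aux _)
  refine ⟨t, Equiv.ext fun p => ?_⟩
  rw [C.act_transl]
  by_cases hp : F.Inc p (F.ln 1)
  · rw [hfix p hp, F.E_fix (C.mem t) hp]
  · obtain ⟨v, rfl⟩ := C.aff_surj hp
    rw [← hH', C.χ_smul_aff, hform, hk1, one_mul, one_mul, add_comm v.1, add_comm v.2]
    rfl

/-- The conjugates of `E` act as elements of `SL₃(4)`. -/
theorem conj_mem (x : G) {e : G} (he : e ∈ F.E) :
    MulAction.toPermHom G (G ⧸ F.ND) (x * e * x⁻¹) ∈ C.act.range := by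
  by_cases he1 : e = 1
  · subst he1
    rw [mul_one, mul_inv_cancel, map_one]
    exact C.act.range.one_mem
  set f := MulAction.toPermHom G (G ⧸ F.ND) (x * e * x⁻¹) with hf
  set m := x • F.ln 1
  obtain ⟨a, ha, hd⟩ := C.exists_dual m
  obtain ⟨s, hs⟩ := exists_line_map a ha
  have hmap : ∀ p, F.Inc (C.act s p) m ↔ F.Inc p (F.ln 1) := fun p => by
    rw [← C.ptOf_vec p, C.act_ptOf s (C.vec_ne p), hd _ (mulVec_ne_zero s (C.vec_ne p)), hs, C.ptOf_on_iff]
  have hffix : ∀ p, F.Inc p m → f p = p := fun p hp => by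
    show (x * e * x⁻¹) • p = p
    have h1 : F.Inc (x⁻¹ • p) (F.ln 1) := by
      have := F.inc_smul hp x⁻¹
      rwa [show x⁻¹ • m = F.ln 1 from inv_smul_smul x _] at this
    rw [mul_smul, mul_smul, F.E_fix he h1, smul_inv_smul]
  have hffree : ∀ p, f p = p → F.Inc p m := fun p hp => by
    have h1 : e • x⁻¹ • p = x⁻¹ • p := by
      rw [eq_inv_smul_iff, ← mul_smul, ← mul_smul]
      exact hp
    have h2 : F.Inc (x⁻¹ • p) (F.ln 1) := by_contra fun hh => he1 (F.E_free he hh h1)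
    have := F.inc_smul h2 x
    rwa [smul_inv_smul] at this
  have hflm : LineMap f := fun l => ⟨(x * e * x⁻¹) • l, fun p hp => F.inc_smul hp _⟩
  obtain ⟨t, ht⟩ := C.eq_transl ((C.act s)⁻¹ * f * C.act s) (fun l => by
      obtain ⟨l1, h1⟩ := C.lineMap_act s l
      obtain ⟨l2, h2⟩ := hflm l1
      obtain ⟨l3, h3⟩ := C.lineMap_act s⁻¹ l2
      exact ⟨l3, fun p hp => by
        have := h3 _ (h2 _ (h1 p hp))
        rwa [map_inv] at this⟩)
    (fun p hp => by
      show (C.act s)⁻¹ (f (C.act s p)) = p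
      rw [hffix _ ((hmap p).2 hp), Equiv.Perm.inv_def, Equiv.symm_apply_apply])
    (fun p hp => by
      rw [← hmap]
      refine hffree _ ?_
      have h1 : (C.act s)⁻¹ (f (C.act s p)) = p := hp
      rwa [Equiv.Perm.inv_def, Equiv.symm_apply_eq] at h1)
  refine ⟨s * transl t * s⁻¹, ?_⟩
  rw [map_mul, map_mul, ← ht, map_inv]
  group

end Coord

/-- A simple group with a frame is `PSL₃(4)`. -/
theorem nonempty_psl (F : Frame G) [IsSimpleGroup G] (h960 : 960 ≤ Nat.card F.ND) :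
    Nonempty (G ≃* Matrix.ProjectiveSpecialLinearGroup (Fin 3) K4) := by
  classical
  obtain ⟨C⟩ := F.exists_Coord
  set φ := MulAction.toPermHom G (G ⧸ F.ND)
  let ψ : Matrix.ProjectiveSpecialLinearGroup (Fin 3) K4 →* Equiv.Perm (G ⧸ F.ND) :=
    QuotientGroup.lift (Subgroup.center S3) C.act fun s hs => MonoidHom.mem_ker.2 (C.act_center hs)
  have hrange : ∀ g : G, φ g ∈ ψ.range := by
    have htop : C.act.range.comap φ = ⊤ := by
      have hle : Subgroup.normalClosure (F.E : Set G) ≤ C.act.range.comap φ := by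
        rw [Subgroup.normalClosure, Subgroup.closure_le]
        intro g hg
        obtain ⟨e, he, hc⟩ := Group.mem_conjugatesOfSet_iff.1 hg
        obtain ⟨x, rfl⟩ := isConj_iff.1 hc
        exact C.conj_mem x he
      rcases IsSimpleGroup.eq_bot_or_eq_top_of_normal (Subgroup.normalClosure (F.E : Set G))
        Subgroup.normalClosure_normal with h | h
      · have : F.E ≤ ⊥ := fun x hx => h ▸ Subgroup.subset_normalClosure hx
        have := Subgroup.card_le_of_le this
        rw [F.card_E, Subgroup.card_bot] at this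
        omega
      · exact top_le_iff.1 (h ▸ hle)
    intro g
    have hg : g ∈ C.act.range.comap φ := htop ▸ Subgroup.mem_top g
    obtain ⟨s, hs⟩ := hg
    exact ⟨QuotientGroup.mk s, hs⟩
  have hφ : Function.Injective φ := by
    rw [← MonoidHom.ker_eq_bot_iff]
    refine (IsSimpleGroup.eq_bot_or_eq_top_of_normal φ.ker inferInstance).resolve_right fun h => ?_
    have hle : ∀ g : G, g ∈ F.ND := fun g => F.smul_pt_one.1
      (show g • F.pt 1 = F.pt 1 from
        congrFun (congrArg DFunLike.coe (MonoidHom.mem_ker.1 (show g ∈ φ.ker from h ▸ Subgroup.mem_top g))) (F.pt 1))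
    haveI : Subsingleton (G ⧸ F.ND) := ⟨fun a b => by
      obtain ⟨a, rfl⟩ := QuotientGroup.mk_surjective a
      obtain ⟨b, rfl⟩ := QuotientGroup.mk_surjective b
      exact QuotientGroup.eq.2 (hle _)⟩
    have := Finite.card_le_one_iff_subsingleton.2 this
    rw [F.count.1] at this
    omega
  have hP : Nat.card (Matrix.ProjectiveSpecialLinearGroup (Fin 3) K4) = 20160 := by
    rw [GLOrder.card_PSL, GLOrder.card_SL, Nat.card_eq_fintype_card, SU32.K4.card_eq]
    simp only [Fintype.card_fin, show Finset.Ico 1 3 = {1, 2} from rfl]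
    decide
  have hle : φ.range ≤ ψ.range := by
    rintro _ ⟨g, rfl⟩
    exact hrange g
  have h1 : Nat.card φ.range = 20160 := by
    have hG := F.card_G
    have hle' := (Subgroup.card_le_of_le hle).trans
      (hP ▸ Nat.card_le_card_of_surjective ψ.rangeRestrict ψ.rangeRestrict_surjective)
    rw [← Nat.card_congr (MonoidHom.ofInjective hφ).toEquiv] at hle' ⊢
    omega
  have h2 : Nat.card ψ.range ≤ 20160 :=
    hP ▸ Nat.card_le_card_of_surjective ψ.rangeRestrict ψ.rangeRestrict_surjective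
  have heq : φ.range = ψ.range := Subgroup.eq_of_le_of_card_ge hle (by omega)
  have hψ : Function.Injective ψ.rangeRestrict :=
    ((Nat.bijective_iff_surjective_and_card _).2 ⟨ψ.rangeRestrict_surjective, by rw [hP, ← heq, h1]⟩).1
  exact ⟨((MonoidHom.ofInjective hφ).trans (MulEquiv.subgroupCongr heq)).trans
    (MulEquiv.ofBijective ψ.rangeRestrict ⟨hψ, ψ.rangeRestrict_surjective⟩).symm⟩

end Frame

end Cfsg.Agent.L34Sylow.Plane
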